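import Cfsg.Agent.M22Id.Order.Lists
import Cfsg.Agent.BrauerPrime.Small
import Cfsg.Agent.BlocksB.SmallFaithful
import Cfsg.Agent.Char.ClassProducts
import Cfsg.Agent.SmallSimple.InvolValues
import Cfsg.Agent.SmallSimple.SylowCheck

/-!
# The principal block for a prime to the first power in a simple group of order 443520
-/

set_option autoImplicit false
set_option linter.style.haveILetI false
set_option linter.unusedSectionVars false

namespace CfsgLib.M22Order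

open Cfsg Finset CfsgLib.Block CfsgLib.Block.Chr CfsgLib.BrauerPairs CfsgLib.BrauerPrime
open CfsgLib.Cyclic (deg)
open scoped ComplexConjugate

universe u

/-- The degree of an irreducible character. -/
noncomputable def dg {G : Type u} [Group G] (χ : IrrCharacter G) : ℕ := charDegree (χ : G → ℂ)

theorem res_one {p d : ℕ} (hp : 1 < p) (h : (d : ℤ) ≡ 1 [ZMOD (p : ℤ)]) : d % p = 1 := by
  have h1 : d ≡ 1 [MOD p] := Int.natCast_modEq_iff.1 (by simpa using h)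
  rwa [Nat.ModEq, Nat.mod_eq_of_lt hp] at h1

theorem res_neg {p d k : ℕ} (hk : 1 ≤ k) (hkp : k < p) (h : (d : ℤ) ≡ -(k : ℤ) [ZMOD (p : ℤ)]) :
    d % p = p - k := by
  have h1 : d ≡ p - k [MOD p] := Int.natCast_modEq_iff.1 (h.trans (Int.modEq_iff_dvd.2 ⟨1, by
    rw [Nat.cast_sub hkp.le]; ring⟩))
  rwa [Nat.ModEq, Nat.mod_eq_of_lt (by omega : p - k < p)] at h1

theorem res_pos {p d k : ℕ} (hkp : k < p) (h : (d : ℤ) ≡ (k : ℤ) [ZMOD (p : ℤ)]) : d % p = k := by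
  have h1 : d ≡ k [MOD p] := Int.natCast_modEq_iff.1 h
  rwa [Nat.ModEq, Nat.mod_eq_of_lt hkp] at h1

/-- The sign read off from the residue. -/
def sgn (p d : ℕ) : ℤ := if d % p == 1 then 1 else -1

variable {G : Type u} [Group G] [Fintype G]

/-- The principal block with its numerical invariants. -/
structure PB (x : Dat) [Fact x.1.Prime] (M : Ideal AlgInt) [M.IsPrime] (S : Sylow x.1 G) (n : ℕ)
    (X Y : Finset (IrrCharacter G)) (sg : IrrCharacter G → ℤ) (ε : ℤ) : Prop where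
  simple : IsSimpleGroup G
  card : Nat.card G = ord
  p3 : 2 < x.1
  mod : IsPModular x.1 M
  setup : Setup G x.1 S
  num : Num S x.2.2 (ee x) n
  hk : 1 + n * x.1 = x.2.1
  blk : Blk M S (ee x) (ss x) X Y sg ε

theorem not_comm [IsSimpleGroup G] (hG : Nat.card G = ord) : ¬ IsMulCommutative G := fun h => by
  letI : CommGroup G := { (inferInstance : Group G) with mul_comm := h.is_comm.comm }
  have := IsSimpleGroup.prime_card (α := G)
  rw [hG] at this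
  norm_num [ord] at this

theorem exists_pb [IsSimpleGroup G] (hG : Nat.card G = ord) {x : Dat} [Fact x.1.Prime] (h3 : 2 < x.1)
    (hx : SylowCheck.Real G x) (S : Sylow x.1 G) :
    ∃ (M : Ideal AlgInt) (_ : M.IsPrime) (n : ℕ) (X Y : Finset (IrrCharacter G)) (sg : IrrCharacter G → ℤ)
      (ε : ℤ), PB x M S n X Y sg ε := by
  have hp : x.1.Prime := Fact.out
  obtain ⟨M, hM⟩ := exists_isPModular hp
  haveI := hM.2.1.isPrime
  have h : Setup G x.1 S := setup_of_simple (fun hc => not_comm hG (by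
    haveI := hc
    exact ⟨⟨fun a b => (IsCyclic.commGroup (α := G)).mul_comm a b⟩⟩)) (hx.2.2.2 S).1
  obtain ⟨n, hn⟩ : ∃ n, x.2.1 = 1 + n * x.1 := by
    have h1 : Nat.card (Sylow x.1 G) % x.1 = 1 :=
      Eq.trans (card_sylow_modEq_one x.1 G) (Nat.mod_eq_of_lt hp.one_lt)
    rw [hx.2.2.1] at h1
    exact ⟨x.2.1 / x.1, by have := Nat.div_add_mod x.2.1 x.1; rw [h1] at this; rw [mul_comm]; omega⟩
  obtain ⟨c, e, num⟩ := exists_num h (n := n) (hx.2.2.1.trans hn)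
  obtain rfl : c = x.2.2 := Nat.eq_of_mul_eq_mul_left hp.pos (num.cardC.symm.trans (hx.2.2.2 S).2)
  obtain rfl : e = ee x := by
    have h1 := num.cardG
    rw [← hn, hG] at h1
    have hpos : 0 < x.1 * x.2.2 * x.2.1 := Nat.mul_pos (Nat.mul_pos hp.pos num.cpos) (by omega)
    unfold ee
    rw [h1, show x.1 * x.2.2 * e * x.2.1 = e * (x.1 * x.2.2 * x.2.1) by ring, Nat.mul_div_cancel _ hpos]
  obtain ⟨s, X, Y, sg, ε, B⟩ := exists_blk hM h num
  obtain rfl : s = ss x := by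
    unfold ss
    have h1 := B.hes
    rw [show x.1 - 1 = ee x * s by omega, Nat.mul_div_cancel_left _ (by have := num.epos; omega)]
  exact ⟨M, inferInstance, n, X, Y, sg, ε, inferInstance, hG, h3, hM, h, num, hn.symm, B⟩

namespace PB

variable {x : Dat} [Fact x.1.Prime] {M : Ideal AlgInt} [M.IsPrime] {S : Sylow x.1 G} {n : ℕ}
  {X Y : Finset (IrrCharacter G)} {sg : IrrCharacter G → ℤ} {ε : ℤ}
  (D : PB x M S n X Y sg ε)

include D

theorem not_dvd_one : ¬ x.1 ∣ orderOf (1 : G) := by rw [orderOf_one]; exact (Fact.out : x.1.Prime).not_dvd_one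

theorem e_bounds : 2 ≤ ee x ∧ ee x < x.1 ∧ 1 ≤ ss x ∧ ee x * ss x + 1 = x.1 := by
  have := D.blk.e_le
  have := D.num.epos
  have := (Fact.out : x.1.Prime).pos
  exact ⟨by omega, by omega, D.blk.spos, D.blk.hes⟩

theorem e_of_s : ss x = 1 → ee x = x.1 - 1 := fun h => by
  have := D.e_bounds.2.2.2
  rw [h, mul_one] at this
  omega

theorem e_of_two : ss x ≠ 1 → 2 * ee x + 1 ≤ x.1 := fun h => by
  obtain ⟨-, -, h1, h2⟩ := D.e_bounds
  have := Nat.mul_le_mul_left (ee x) (show 2 ≤ ss x by omega)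
  omega

theorem residue_X {χ : IrrCharacter G} (hχ : χ ∈ X) :
    (sg χ = 1 ∧ dg χ % x.1 = 1) ∨ (sg χ = -1 ∧ dg χ % x.1 = x.1 - 1) := by
  have h := D.blk.congX χ hχ
  rcases D.blk.sign χ hχ with e | e <;> rw [e] at h
  · exact Or.inl ⟨e, res_one (by have := D.p3; omega) h⟩
  · exact Or.inr ⟨e, res_neg le_rfl (by have := D.p3; omega) (by simpa [deg, dg] using h)⟩

theorem residue_Y {θ : IrrCharacter G} (hθ : θ ∈ Y) :
    (ε = 1 ∧ dg θ % x.1 = ee x) ∨ (ε = -1 ∧ dg θ % x.1 = x.1 - ee x) := by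
  have h := D.blk.congY θ hθ
  obtain ⟨he, he', -, -⟩ := D.e_bounds
  rcases D.blk.signY with e | e <;> rw [e] at h
  · exact Or.inl ⟨e, res_pos he' (by simpa [deg, dg] using h)⟩
  · exact Or.inr ⟨e, res_neg (by omega) he' (by simpa [deg, dg] using h)⟩

theorem sgn_X {χ : IrrCharacter G} (hχ : χ ∈ X) : sgn x.1 (dg χ) = sg χ := by
  have := D.p3
  rcases D.residue_X hχ with ⟨e, h⟩ | ⟨e, h⟩ <;> rw [e] <;> simp [sgn, h]
  omega

theorem wt_X {χ : IrrCharacter G} (hχ : χ ∈ X) : wt x (dg χ) = (ss x : ℤ) * sg χ := by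
  have := D.p3
  rcases D.residue_X hχ with ⟨e, h⟩ | ⟨e, h⟩ <;> rw [e]
  · simp [wt, h]
  · simp [wt, h, show x.1 - 1 ≠ 1 by omega]

theorem wt_Y {θ : IrrCharacter G} (hθ : θ ∈ Y) : wt x (dg θ) = -ε := by
  obtain ⟨he, he', -, -⟩ := D.e_bounds
  have := D.p3
  by_cases hs : ss x = 1
  · have h1 := D.e_of_s hs
    rcases D.residue_Y hθ with ⟨e, h⟩ | ⟨e, h⟩ <;> rw [e]
    · rw [h1] at h
      simp [wt, h, hs, show x.1 - 1 ≠ 1 by omega]
    · rw [h1, show x.1 - (x.1 - 1) = 1 by omega] at h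
      simp [wt, h, hs]
  · have h1 := D.e_of_two hs
    rcases D.residue_Y hθ with ⟨e, h⟩ | ⟨e, h⟩ <;> rw [e]
    · simp [wt, h, show ee x ≠ 1 by omega, show ee x ≠ x.1 - 1 by omega]
    · simp [wt, h, show x.1 - ee x ≠ 1 by omega, show x.1 - ee x ≠ x.1 - 1 by omega,
        show x.1 - ee x ≠ ee x by omega]

theorem residue {χ : IrrCharacter G} (h : χ ∈ X ∨ χ ∈ Y) : dg χ % x.1 ≠ 0 := by
  obtain ⟨he, he', -, -⟩ := D.e_bounds
  have := D.p3
  rcases h with h | h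
  · rcases D.residue_X h with ⟨-, e⟩ | ⟨-, e⟩ <;> omega
  · rcases D.residue_Y h with ⟨-, e⟩ | ⟨-, e⟩ <;> omega

theorem memY_of_isY {χ : IrrCharacter G} (h : χ ∈ X ∨ χ ∈ Y) (hy : isY x (dg χ) = true) : χ ∈ Y := by
  refine h.resolve_left fun hX => ?_
  obtain ⟨he, he', -, -⟩ := D.e_bounds
  simp only [isY, Bool.and_eq_true, bne_iff_ne, ne_eq, Bool.or_eq_true, beq_iff_eq] at hy
  have := D.e_of_two hy.1
  rcases D.residue_X hX with ⟨-, e⟩ | ⟨-, e⟩ <;> omega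

open Classical in
/-- The members. -/
theorem mem_union_iff {χ : IrrCharacter G} : χ ∈ X ∪ Y ↔ χ ∈ X ∨ χ ∈ Y := Finset.mem_union

open Classical in
/-- The relation on regular elements, with the weights. -/
theorem rel {g : G} (hg : ¬ x.1 ∣ orderOf g) :
    ∑ χ ∈ X ∪ Y, (wt x (dg χ) : ℂ) * (χ : G → ℂ) g = 0 := by
  obtain ⟨θ₀, hθ₀⟩ := card_pos.1 (D.blk.cardY ▸ D.blk.spos : 0 < Y.card)
  rw [sum_union (disjoint_left.2 D.blk.disj),
    sum_congr rfl fun χ (hχ : χ ∈ X) => show (wt x (dg χ) : ℂ) * (χ : G → ℂ) g =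
      (ss x : ℂ) * ((sg χ : ℂ) * (χ : G → ℂ) g) by rw [D.wt_X hχ]; push_cast; ring,
    sum_congr rfl fun θ (hθ : θ ∈ Y) => show (wt x (dg θ) : ℂ) * (θ : G → ℂ) g =
      -((ε : ℂ) * (θ₀ : G → ℂ) g) by rw [D.wt_Y hθ, D.blk.agree θ hθ θ₀ hθ₀ g hg]; push_cast; ring,
    ← mul_sum, ← D.blk.rel θ₀ hθ₀ g hg, sum_const, D.blk.cardY, nsmul_eq_mul]
  ring

/-- Congruence at an element centralising the Sylow subgroup. -/
theorem cong {u : G} (hu : u ∈ Subgroup.centralizer ((S : Subgroup G) : Set G)) (hur : ¬ x.1 ∣ orderOf u)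
    {χ : IrrCharacter G} (h : χ ∈ X ∨ χ ∈ Y) (hr : dg χ % x.1 = 1 ∨ dg χ % x.1 = x.1 - 1) {v : ℤ}
    (hv : (χ : G → ℂ) u = v) (hint : ∀ ψ ∈ X, ∃ w : ℤ, (ψ : G → ℂ) u = w) (hup : u ^ x.1 = u) :
    (x.1 : ℤ) ∣ v - sgn x.1 (dg χ) := by
  have hp : x.1.Prime := Fact.out
  obtain ⟨z, hz, hz1⟩ := exists_ne_one D.setup
  have hzu : Commute z u := Subgroup.mem_centralizer_iff.1 hu z hz
  have hpow : (z * u) ^ x.1 = u := by
    rw [hzu.mul_pow, hup, show z ^ x.1 = 1 by rw [← orderOf_eq D.setup hz hz1]; exact pow_orderOf_eq_one z, one_mul]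
  have key : ∀ ψ ∈ X, ∀ w : ℤ, (ψ : G → ℂ) u = w → (x.1 : ℤ) ∣ w - sg ψ := fun ψ hψ w hw =>
    CfsgLib.InvolValues.int_value_congr hp (isCharacter_irr ψ) hpow (D.blk.valX ψ hψ z hz hz1 u hu hur) hw
  rcases h with h | h
  · rw [D.sgn_X h]; exact key χ h v hv
  · have hs : ss x = 1 := by
      by_contra hs
      have := D.e_of_two hs
      have := D.e_bounds.1
      rcases D.residue_Y h with ⟨-, e⟩ | ⟨-, e⟩ <;> omega
    have he := D.e_of_s hs
    choose! w hw using hint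
    have h1 := D.blk.rel χ h u hur
    rw [hv, sum_congr rfl fun ψ (hψ : ψ ∈ X) => by rw [hw ψ hψ]] at h1
    have h2 : ε * v = ∑ ψ ∈ X, sg ψ * w ψ := by exact_mod_cast h1
    have h3 : (x.1 : ℤ) ∣ ∑ ψ ∈ X, (sg ψ * w ψ - 1) := dvd_sum fun ψ hψ => by
      obtain ⟨m, hm⟩ := key ψ hψ (w ψ) (hw ψ hψ)
      rcases D.blk.sign ψ hψ with e | e <;> rw [e] at hm ⊢
      · exact ⟨m, by linarith⟩
      · exact ⟨-m, by linarith⟩
    rw [sum_sub_distrib, ← h2, sum_const, D.blk.cardX, nsmul_eq_mul, mul_one, he,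
      Nat.cast_sub hp.one_lt.le] at h3
    obtain ⟨m, hm⟩ := h3
    have := D.p3
    rcases D.residue_Y h with ⟨e, hd⟩ | ⟨e, hd⟩ <;> rw [e] at hm <;> rw [he] at hd
    · rw [show sgn x.1 (dg χ) = -1 by simp [sgn, hd, show x.1 - 1 ≠ 1 by omega]]
      exact ⟨m + 1, by push_cast at hm ⊢; linarith⟩
    · rw [show x.1 - (x.1 - 1) = 1 by omega] at hd
      rw [show sgn x.1 (dg χ) = 1 by simp [sgn, hd]]
      exact ⟨-m - 1, by push_cast at hm ⊢; linarith⟩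

/-- Values at a non-trivial element of the Sylow subgroup, when `s = 1`. -/
theorem gen (hs : ss x = 1) {z : G} (hz : z ∈ (S : Subgroup G)) (hz1 : z ≠ 1) {χ : IrrCharacter G}
    (h : χ ∈ X ∨ χ ∈ Y) : (χ : G → ℂ) z = (sgn x.1 (dg χ) : ℂ) := by
  rcases h with h | h
  · rw [D.sgn_X h]; exact D.blk.valP h hz hz1
  · have he := D.e_of_s hs
    have := D.p3
    obtain ⟨θ, hθ⟩ := card_eq_one.1 (D.blk.cardY.trans hs)
    have hsum := D.blk.sumY D.mod D.setup hz hz1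
    rw [hθ, sum_singleton] at hsum
    obtain rfl : χ = θ := mem_singleton.1 (hθ ▸ h)
    rw [hsum]
    rcases D.residue_Y h with ⟨e, hd⟩ | ⟨e, hd⟩ <;> rw [he] at hd <;> rw [e]
    · simp [sgn, hd, show x.1 - 1 ≠ 1 by omega]
    · rw [show x.1 - (x.1 - 1) = 1 by omega] at hd
      simp [sgn, hd]

theorem dvd_ek {χ : IrrCharacter G} (h : χ ∈ X ∨ χ ∈ Y) : dg χ ∣ ee x * x.2.1 := by
  rw [← D.hk]
  rcases h with h | h
  · exact D.blk.dvdX D.setup D.num h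
  · exact D.blk.dvdY D.mod D.setup D.num h

theorem dvd_ord {χ : IrrCharacter G} (h : χ ∈ X ∨ χ ∈ Y) : dg χ ∣ ord :=
  (D.dvd_ek h).trans ⟨x.1 * x.2.2, by rw [← D.card, D.num.cardG, D.hk]; ring⟩

theorem two_le {χ : IrrCharacter G} (h : χ ≠ trivIrr G) : 2 ≤ dg χ := by
  have h1 : 0 < dg χ := (irr_one χ).2
  by_contra h2
  exact h (eq_trivIrr D.setup (show ((dg χ : ℕ) : ℤ) = 1 by exact_mod_cast (by omega : dg χ = 1)))

theorem big {χ : IrrCharacter G} (hc : x.2.2 ≠ 1) (h : χ ∈ X ∨ χ ∈ Y) (ht : χ ≠ trivIrr G) : 2 * x.1 ≤ dg χ := by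
  by_contra hlt
  haveI := D.simple
  obtain ⟨q, hq, hqc⟩ := Nat.exists_prime_and_dvd hc
  haveI := Fact.mk hq
  obtain ⟨⟨y, hy⟩, hyo⟩ := exists_prime_orderOf_dvd_card'
    (G := Subgroup.centralizer ((S : Subgroup G) : Set G)) q (D.num.cardC ▸ Dvd.dvd.mul_left hqc _)
  rw [Subgroup.orderOf_mk] at hyo
  have hp : x.1.Prime := Fact.out
  have hqp : q ≠ x.1 := by
    rintro rfl
    have h1 := Sylow.not_dvd_index S
    rw [show (S : Subgroup G).index = x.2.2 * (ee x * (1 + n * x.1)) by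
      have h2 := (S : Subgroup G).card_mul_index
      rw [show Nat.card (S : Subgroup G) = x.1 from D.setup.cardP, D.num.cardG] at h2
      exact Nat.eq_of_mul_eq_mul_left hp.pos (by rw [h2]; ring)] at h1
    exact h1 (hqc.mul_right _)
  have h1 := CfsgLib.SmallFaithful.eq_one D.mod D.setup.perfect S ((D.blk.mem χ).2 h)
    (fun g hg => faithful_of_simple D.setup ht g hg) (not_le.1 hlt) hy
    (fun hd => hqp ((Nat.prime_dvd_prime_iff_eq hp hq).1 (hyo ▸ hd)).symm)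
  rw [h1, orderOf_one] at hyo
  exact hq.one_lt.ne hyo

open Classical in
/-- The degrees with their multiplicities. -/
theorem degs : ∃ xs y, BlockDegs x xs y ∧ ((X ∪ Y).toList.map dg).Perm (blockList x xs y) := by
  obtain ⟨θ₀, hθ₀⟩ := card_pos.1 (D.blk.cardY ▸ D.blk.spos : 0 < Y.card)
  obtain ⟨he, he', hs, -⟩ := D.e_bounds
  have hY : ∀ θ ∈ Y, dg θ = dg θ₀ := fun θ hθ => by
    have := D.blk.deg_agree hθ hθ₀
    exact_mod_cast (this : ((dg θ : ℕ) : ℤ) = ((dg θ₀ : ℕ) : ℤ))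
  have hθt : θ₀ ≠ trivIrr G := fun e => D.blk.disj _ D.blk.triv (e ▸ hθ₀)
  set L := (X.erase (trivIrr G)).toList.map dg with hL
  have hmem : ∀ v ∈ dg θ₀ :: L, ∃ χ, (χ ∈ X ∨ χ ∈ Y) ∧ χ ≠ trivIrr G ∧ dg χ = v := by
    intro v hv
    rcases List.mem_cons.1 hv with rfl | hv
    · exact ⟨θ₀, Or.inr hθ₀, hθt, rfl⟩
    · obtain ⟨χ, hχ, rfl⟩ := List.mem_map.1 hv
      rw [Finset.mem_toList, mem_erase] at hχ
      exact ⟨χ, Or.inl hχ.2, hχ.1, rfl⟩
  have htriv : dg (trivIrr G : IrrCharacter G) = 1 := by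
    exact_mod_cast (deg_trivIrr (G := G) : ((dg (trivIrr G : IrrCharacter G) : ℕ) : ℤ) = 1)
  have hsum : ∀ {A : Type} [AddCommMonoid A] (f : ℕ → A),
      ∑ χ ∈ X ∪ Y, f (dg χ) = f 1 + (L.map f).sum + ss x • f (dg θ₀) := by
    intro A _ f
    rw [sum_union (disjoint_left.2 D.blk.disj), ← add_sum_erase X _ D.blk.triv, htriv,
      sum_congr rfl fun θ (hθ : θ ∈ Y) => by rw [hY θ hθ], sum_const, D.blk.cardY, hL, List.map_map,
      ← Finset.sum_map_toList]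
    rfl
  refine ⟨L, dg θ₀, ⟨hs, ?_, ?_, ?_, ?_, ?_, ?_, ?_, ?_, ?_⟩, ?_⟩
  · rw [hL, List.length_map, length_toList, card_erase_of_mem D.blk.triv, D.blk.cardX]; omega
  · intro v hv
    obtain ⟨χ, hχ, rfl⟩ := List.mem_map.1 hv
    rw [Finset.mem_toList, mem_erase] at hχ
    rcases D.residue_X hχ.2 with ⟨-, e⟩ | ⟨-, e⟩ <;> simp [e]
  · rcases D.residue_Y hθ₀ with ⟨-, e⟩ | ⟨-, e⟩ <;> simp [e]
  · intro h1
    have := D.e_of_s h1
    rcases D.residue_Y hθ₀ with ⟨-, e⟩ | ⟨-, e⟩ <;> omega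
  · intro v hv
    obtain ⟨χ, hχ, -, rfl⟩ := hmem v hv
    exact D.dvd_ek hχ
  · intro v hv
    obtain ⟨χ, -, ht, rfl⟩ := hmem v hv
    exact D.two_le ht
  · intro hc v hv
    obtain ⟨χ, hχ, ht, rfl⟩ := hmem v hv
    exact D.big hc hχ ht
  · letI := irrFintype (G := G)
    have h := column_orth (G := G) 1 1
    rw [if_pos (IsConj.refl _), show Subgroup.centralizer ({(1 : G)} : Set G) = ⊤ by
      ext g; simp [Subgroup.mem_centralizer_singleton_iff], Subgroup.card_top, D.card,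
      sum_congr rfl fun (χ : IrrCharacter G) _ => show (χ : G → ℂ) 1 * conj ((χ : G → ℂ) 1) =
        ((dg χ * dg χ : ℕ) : ℂ) by rw [(irr_one χ).1, map_natCast, dg]; push_cast; rfl, ← Nat.cast_sum] at h
    have h' : ∑ χ : IrrCharacter G, dg χ * dg χ = ord := by exact_mod_cast h
    rw [← h']
    refine le_trans (le_of_eq ?_) (sum_le_sum_of_subset (subset_univ (X ∪ Y)))
    rw [hsum (fun v => v * v), one_mul, smul_eq_mul]
  · have h := D.rel D.not_dvd_one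
    rw [sum_congr rfl fun χ _ => show (wt x (dg χ) : ℂ) * (χ : G → ℂ) 1 =
      ((wt x (dg χ) * (dg χ : ℤ) : ℤ) : ℂ) by rw [(irr_one χ).1, dg]; push_cast; rfl, ← Int.cast_sum] at h
    have h' : ∑ χ ∈ X ∪ Y, wt x (dg χ) * (dg χ : ℤ) = 0 := by exact_mod_cast h
    rw [hsum (fun v : ℕ => wt x v * (v : ℤ)), nsmul_eq_mul,
      show wt x 1 = ss x by simp [wt, Nat.one_mod_eq_one.2 (show x.1 ≠ 1 by omega)]] at h'
    rw [← h']; push_cast; ring
  · rw [← Multiset.coe_eq_coe, ← Multiset.map_coe, coe_toList, ← Finset.disjUnion_eq_union X Y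
      (disjoint_left.2 D.blk.disj), Finset.disjUnion_val, Multiset.map_add]
    conv_lhs => rw [← insert_erase D.blk.triv, insert_val_of_notMem (notMem_erase _ _), Multiset.map_cons, htriv]
    rw [Multiset.map_congr rfl (fun θ (hθ : θ ∈ Y.val) => hY θ hθ), Multiset.map_const', Finset.card_val,
      D.blk.cardY, hL, ← coe_toList (X.erase (trivIrr G)), Multiset.map_coe]
    rfl

theorem out (hc : x.2.2 = 1) (χ : IrrCharacter G) : ¬ x.1 ∣ dg χ ↔ χ ∈ X ∨ χ ∈ Y := by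
  refine ⟨fun h => (D.blk.mem χ).1 (by_contra fun h' => h ?_), fun h hd => D.residue h (Nat.mod_eq_zero_of_dvd hd)⟩
  exact (outside D.mod D.setup (hc ▸ D.num) h').1

/-- With `e` odd no element inverts a non-trivial element of the Sylow subgroup. -/
theorem not_inverted (he : ee x % 2 = 1) {z : G} (hz : z ∈ (S : Subgroup G)) (hz1 : z ≠ 1) (g : G) :
    g * z * g⁻¹ ≠ z⁻¹ := by
  intro hg
  have hgN : g ∈ Subgroup.normalizer ((S : Subgroup G) : Set G) := by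
    rw [← zpowers_eq D.setup hz hz1]
    refine Subgroup.mem_normalizer_iff.2 fun w => ⟨fun hw => ?_, fun hw => ?_⟩
    · obtain ⟨i, rfl⟩ := Subgroup.mem_zpowers_iff.1 hw
      rw [← conj_zpow, hg]
      exact zpow_mem (inv_mem (Subgroup.mem_zpowers z)) i
    · obtain ⟨i, hi⟩ := Subgroup.mem_zpowers_iff.1 hw
      refine ⟨-i, ?_⟩
      show z ^ (-i) = w
      refine (MulAut.conj g).injective ?_
      rw [MulAut.conj_apply, MulAut.conj_apply, ← hi, ← conj_zpow, hg, zpow_neg, inv_zpow, inv_inv]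
  set C' := (Subgroup.centralizer ((S : Subgroup G) : Set G)).subgroupOf
    (Subgroup.normalizer ((S : Subgroup G) : Set G)) with hC'
  haveI : C'.Normal := by
    rw [hC', ← Subgroup.normalizerMonoidHom_ker]
    exact MonoidHom.normal_ker _
  have he' := Subgroup.pow_index_mem C' ⟨g, hgN⟩
  rw [show C'.index = ee x from D.num.he, hC', Subgroup.mem_subgroupOf, SubmonoidClass.coe_pow,
    ← centralizer_singleton D.setup hz hz1] at he'
  have h2 : g ^ 2 ∈ Subgroup.centralizer ({z} : Set G) := by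
    refine Subgroup.mem_centralizer_singleton_iff.2 ?_
    show g ^ 2 * z = z * g ^ 2
    refine mul_inv_eq_iff_eq_mul.1 ?_
    rw [show g ^ 2 * z * (g ^ 2)⁻¹ = g * (g * z * g⁻¹) * g⁻¹ by simp [sq, mul_assoc], hg,
      show g * z⁻¹ * g⁻¹ = (g * z * g⁻¹)⁻¹ by group, hg, inv_inv]
  have hg' : g ∈ Subgroup.centralizer ({z} : Set G) := by
    obtain ⟨m, hm⟩ : ∃ m, ee x = 2 * m + 1 := ⟨ee x / 2, by omega⟩
    rw [hm, pow_succ, pow_mul] at he'
    exact (Subgroup.mul_mem_cancel_left _ (pow_mem h2 m)).1 he'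
  rw [Subgroup.mem_centralizer_singleton_iff.1 hg', mul_inv_cancel_right] at hg
  have h3 : z ^ 2 = 1 := by rw [sq]; exact eq_inv_iff_mul_eq_one.1 hg
  have h4 := orderOf_dvd_of_pow_eq_one h3
  rw [orderOf_eq D.setup hz hz1] at h4
  have := Nat.le_of_dvd two_pos h4
  have := D.p3
  omega

open Classical in
/-- The structure constant with an element of the Sylow subgroup. -/
theorem pairs (hc : x.2.2 = 1) {a b : G} (ha : ¬ x.1 ∣ orderOf a) (hb : ¬ x.1 ∣ orderOf b)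
    {va vb : IrrCharacter G → ℤ} (hva : ∀ χ ∈ X ∪ Y, (χ : G → ℂ) a = va χ)
    (hvb : ∀ χ ∈ X ∪ Y, (χ : G → ℂ) b = vb χ) :
    ∃ N : ℕ, ∑ χ ∈ X ∪ Y, wt x (dg χ) * va χ * vb χ * ((ord / dg χ : ℕ) : ℤ) =
        ((Nat.card (Subgroup.centralizer ({a} : Set G)) * Nat.card (Subgroup.centralizer ({b} : Set G)) * ss x : ℕ) : ℤ) * N ∧
      (a = b → a * a = 1 → ee x % 2 = 1 → N = 0) := by
  letI := irrFintype (G := G)
  obtain ⟨θ₀, hθ₀⟩ := card_pos.1 (D.blk.cardY ▸ D.blk.spos : 0 < Y.card)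
  obtain ⟨z, hz, hz1⟩ := exists_ne_one D.setup
  set P := {q : G × G // IsConj a q.1 ∧ IsConj b q.2 ∧ q.1 * q.2 = z}
  refine ⟨Nat.card P, ?_, ?_⟩
  swap
  · rintro rfl ha2 he
    refine Nat.card_eq_zero.2 (Or.inl ⟨fun q => ?_⟩)
    obtain ⟨⟨c, d⟩, hc', hd', hcd⟩ := q
    have inv2 : ∀ {w : G}, IsConj a w → w * w = 1 := fun {w} hw => by
      obtain ⟨t, rfl⟩ := isConj_iff.1 hw
      rw [show t * a * t⁻¹ * (t * a * t⁻¹) = t * (a * a) * t⁻¹ by group, ha2, mul_one, mul_inv_cancel]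
    change c * d = z at hcd
    refine D.not_inverted he hz hz1 c ?_
    rw [← hcd, mul_inv_rev, inv_eq_of_mul_eq_one_right (inv2 hd'), inv_eq_of_mul_eq_one_right (inv2 hc'),
      ← mul_assoc, inv2 hc', one_mul]
  have hsum : ∑ χ : IrrCharacter G, (χ : G → ℂ) a * (χ : G → ℂ) b * conj ((χ : G → ℂ) z) / (χ : G → ℂ) 1 =
      ∑ χ ∈ X, (sg χ : ℂ) * ((χ : G → ℂ) a * (χ : G → ℂ) b / (χ : G → ℂ) 1) -
        (ε : ℂ) * ((θ₀ : G → ℂ) a * (θ₀ : G → ℂ) b / (θ₀ : G → ℂ) 1) := by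
    rw [← sum_subset (subset_univ (X ∪ Y)) fun χ _ h => by
      rw [mem_union, not_or] at h
      rw [(outside D.mod D.setup (hc ▸ D.num) (φ := χ) fun h' => ((D.blk.mem χ).1 h').elim h.1 h.2).2 z
        (by rw [orderOf_eq D.setup hz hz1])]
      simp]
    rw [sum_union (disjoint_left.2 D.blk.disj), sum_congr rfl fun χ (hχ : χ ∈ X) =>
      show (χ : G → ℂ) a * (χ : G → ℂ) b * conj ((χ : G → ℂ) z) / (χ : G → ℂ) 1 =
        (sg χ : ℂ) * ((χ : G → ℂ) a * (χ : G → ℂ) b / (χ : G → ℂ) 1) by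
        rw [D.blk.valP hχ hz hz1, map_intCast]; ring,
      sum_congr rfl fun θ (hθ : θ ∈ Y) =>
      show (θ : G → ℂ) a * (θ : G → ℂ) b * conj ((θ : G → ℂ) z) / (θ : G → ℂ) 1 =
        ((θ₀ : G → ℂ) a * (θ₀ : G → ℂ) b / (θ₀ : G → ℂ) 1) * conj ((θ : G → ℂ) z) by
        rw [D.blk.agree θ hθ θ₀ hθ₀ a ha, D.blk.agree θ hθ θ₀ hθ₀ b hb,
          D.blk.agree θ hθ θ₀ hθ₀ 1 D.not_dvd_one]; ring,
      ← mul_sum, ← map_sum, D.blk.sumY D.mod D.setup hz hz1, map_neg, map_intCast]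
    ring
  have hcnt := CfsgLib.Char.card_class_products a b z
  rw [← sum_irr_eq (fun χ => χ a * χ b * conj (χ z) / χ 1), hsum, D.card, CfsgLib.Char.card_conj_class,
    CfsgLib.Char.card_conj_class] at hcnt
  change (Nat.card P : ℂ) = _ at hcnt
  have hia : ((Subgroup.centralizer ({a} : Set G)).index : ℂ) * (Nat.card (Subgroup.centralizer ({a} : Set G)) : ℂ) = (ord : ℂ) := by
    exact_mod_cast (Subgroup.index_mul_card _).trans D.card
  have hib : ((Subgroup.centralizer ({b} : Set G)).index : ℂ) * (Nat.card (Subgroup.centralizer ({b} : Set G)) : ℂ) = (ord : ℂ) := by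
    exact_mod_cast (Subgroup.index_mul_card _).trans D.card
  have hord : (ord : ℂ) ≠ 0 := by norm_num [ord]
  have key : ((∑ χ ∈ X ∪ Y, wt x (dg χ) * va χ * vb χ * ((ord / dg χ : ℕ) : ℤ) : ℤ) : ℂ) =
      (ord : ℂ) * (ss x : ℂ) * (∑ χ ∈ X, (sg χ : ℂ) * ((χ : G → ℂ) a * (χ : G → ℂ) b / (χ : G → ℂ) 1) -
        (ε : ℂ) * ((θ₀ : G → ℂ) a * (θ₀ : G → ℂ) b / (θ₀ : G → ℂ) 1)) := by
    have hterm : ∀ χ ∈ X ∪ Y, ((wt x (dg χ) * va χ * vb χ * ((ord / dg χ : ℕ) : ℤ) : ℤ) : ℂ) =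
        (ord : ℂ) * ((wt x (dg χ) : ℂ) * ((χ : G → ℂ) a * (χ : G → ℂ) b / (χ : G → ℂ) 1)) := by
      intro χ hχ
      have hd : dg χ ∣ ord := D.dvd_ord (mem_union.1 hχ)
      rw [hva χ hχ, hvb χ hχ, (irr_one χ).1]
      rw [Int.cast_mul, Int.cast_mul, Int.cast_mul, Int.cast_natCast, Nat.cast_div hd (Nat.cast_ne_zero.2 (irr_one χ).2.ne')]
      simp only [dg]
      ring
    rw [Int.cast_sum, sum_congr rfl hterm, ← mul_sum, sum_union (disjoint_left.2 D.blk.disj),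
      sum_congr rfl fun χ (hχ : χ ∈ X) => show
        (wt x (dg χ) : ℂ) * ((χ : G → ℂ) a * (χ : G → ℂ) b / (χ : G → ℂ) 1) =
        (ss x : ℂ) * ((sg χ : ℂ) * ((χ : G → ℂ) a * (χ : G → ℂ) b / (χ : G → ℂ) 1)) by
        rw [D.wt_X hχ]; push_cast; ring,
      sum_congr rfl fun θ (hθ : θ ∈ Y) => show
        (wt x (dg θ) : ℂ) * ((θ : G → ℂ) a * (θ : G → ℂ) b / (θ : G → ℂ) 1) =
        -((ε : ℂ) * ((θ₀ : G → ℂ) a * (θ₀ : G → ℂ) b / (θ₀ : G → ℂ) 1)) by
        rw [D.wt_Y hθ, D.blk.agree θ hθ θ₀ hθ₀ a ha, D.blk.agree θ hθ θ₀ hθ₀ b hb,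
          D.blk.agree θ hθ θ₀ hθ₀ 1 D.not_dvd_one]; push_cast; ring,
      ← mul_sum, sum_const, D.blk.cardY, nsmul_eq_mul]
    ring
  set T := ∑ χ ∈ X, (sg χ : ℂ) * ((χ : G → ℂ) a * (χ : G → ℂ) b / (χ : G → ℂ) 1) -
    (ε : ℂ) * ((θ₀ : G → ℂ) a * (θ₀ : G → ℂ) b / (θ₀ : G → ℂ) 1)
  rw [← Int.cast_inj (α := ℂ), key]
  push_cast
  rw [hcnt]
  have heq : ((Subgroup.centralizer ({a} : Set G)).index : ℂ) * ((Subgroup.centralizer ({b} : Set G)).index : ℂ) / (ord : ℂ) *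
      ((Nat.card (Subgroup.centralizer ({a} : Set G)) : ℂ) * (Nat.card (Subgroup.centralizer ({b} : Set G)) : ℂ)) = (ord : ℂ) := by
    rw [div_mul_eq_mul_div, div_eq_iff hord]
    linear_combination (((Subgroup.centralizer ({b} : Set G)).index : ℂ) * (Nat.card (Subgroup.centralizer ({b} : Set G)) : ℂ)) * hia + (ord : ℂ) * hib
  linear_combination (-((ss x : ℂ) * T)) * heq

end PB

end CfsgLib.M22Order
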