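/-
The finite searches behind the uniqueness of the simple group of order 443520: degrees in the
principal blocks for the primes 11, 7, 5 and integral columns on their characters.
-/
import Mathlib.Data.List.Perm.Basic
import Mathlib.Data.List.Dedup
import Mathlib.Tactic.Linarith

set_option autoImplicit false

namespace CfsgLib.M22Order

/-- A prime, the number of Sylow subgroups and the index of the Sylow subgroup in its centraliser. -/
abbrev Dat : Type := ℕ × ℕ × ℕ

/-- The order. -/
def ord : ℕ := 443520

/-- The divisors of the order. -/
def divs : List ℕ :=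
  [1, 2, 4, 8, 16, 32, 64, 128].flatMap fun a => [1, 3, 9].flatMap fun b =>
    [1, 5].flatMap fun c => [1, 7].flatMap fun e => [1, 11].map fun f => a * b * c * e * f

/-- The divisors whose square is below the order. -/
def small : List ℕ :=
  [1, 11, 7, 77, 5, 55, 35, 385, 3, 33, 21, 231, 15, 165,
  105, 9, 99, 63, 45, 495, 315, 2, 22, 14, 154, 10, 110, 70,
  6, 66, 42, 462, 30, 330, 210, 18, 198, 126, 90, 630, 4, 44,
  28, 308, 20, 220, 140, 12, 132, 84, 60, 660, 420, 36, 396, 252,
  180, 8, 88, 56, 616, 40, 440, 280, 24, 264, 168, 120, 72, 504,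
  360, 16, 176, 112, 80, 560, 48, 528, 336, 240, 144, 32, 352, 224,
  160, 96, 480, 288, 64, 448, 320, 192, 576, 128, 640, 384]

/-- Those divisible by 11. -/
def elevens : List ℕ :=
  [11, 77, 55, 385, 33, 231, 165, 99, 495, 22, 154, 110, 66, 462,
  330, 198, 44, 308, 220, 132, 660, 396, 88, 616, 440, 264, 176, 528,
  352]

/-- The index of the centraliser in the normaliser. -/
def ee (x : Dat) : ℕ := ord / (x.1 * x.2.2 * x.2.1)

/-- The number of exceptional characters. -/
def ss (x : Dat) : ℕ := (x.1 - 1) / ee x

/-- The weight of a degree in the principal block. -/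
def wt (x : Dat) (v : ℕ) : ℤ :=
  if v % x.1 == 1 then (ss x : ℤ)
  else if v % x.1 == x.1 - 1 then -(ss x : ℤ)
  else if v % x.1 == ee x then -1
  else if v % x.1 == x.1 - ee x then 1
  else 0

/-- The degree of an exceptional character, when there are several of them. -/
def isY (x : Dat) (v : ℕ) : Bool :=
  ss x != 1 && (v % x.1 == ee x || v % x.1 == x.1 - ee x)

/-- The choices of a first member from a list, with what may follow it. -/
def heads : List ℕ → List (ℕ × List ℕ)
  | [] => []
  | a :: l => (a, a :: l) :: heads l

/-- Multisets of candidates with a given weighted sum and a bound for the squares. -/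
def gen (w : ℕ → ℤ) : ℕ → List ℕ → ℤ → ℕ → List (List ℕ)
  | 0, _, t, _ => if t == 0 then [[]] else []
  | n + 1, l, t, b =>
      (heads l).flatMap fun al =>
        if Nat.ble (al.1 * al.1) b then
          (gen w n al.2 (t - w al.1 * al.1) (b - al.1 * al.1)).map (al.1 :: ·)
        else []

/-- Candidates for the degrees of the non-trivial characters of a principal block. -/
def cands (x : Dat) (D : List ℕ) : List ℕ :=
  D.filter fun v => (ee x * x.2.1) % v == 0 && Nat.ble 2 v && decide (v * v < ord) &&
    (x.2.2 == 1 || Nat.ble (2 * x.1) v)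

/-- The lists of degrees of a principal block, the non-trivial ones from a given list. -/
def lists (x : Dat) (D : List ℕ) : List (List ℕ) :=
  let cd := cands x D
  let xs := cd.filter fun v => v % x.1 == 1 || v % x.1 == x.1 - 1
  if ss x == 1 then (gen (wt x) (ee x) xs (-1) (ord - 1)).map (1 :: ·)
  else (cd.filter fun v => v % x.1 == ee x || v % x.1 == x.1 - ee x).flatMap fun y =>
    if Nat.ble (ss x * (y * y)) (ord - 1) then
      (gen (wt x) (ee x - 1) xs (-(ss x : ℤ) - (ss x : ℤ) * (wt x y * y)) (ord - 1 - ss x * (y * y))).map
        fun t => (1 :: t) ++ List.replicate (ss x) y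
    else []

/-- A degree and the membership in the block of the free prime. -/
abbrev Rec : Type := ℕ × Bool

/-- The number of characters with a given degree in the union of the blocks. -/
def num (A B Q : List ℕ) (q : ℕ) (v : ℕ) : ℕ :=
  if v % 11 != 0 then A.count v else if v % q != 0 then Q.count v else B.count v

/-- The degrees in the union, those prime to 11 first. -/
def keys (A B Q : List ℕ) : List ℕ :=
  A.reverse.dedup.reverse ++ ((Q ++ B).filter fun v => v % 11 == 0).dedup

/-- The records of the union of the blocks. -/
def recs (A B Q : List ℕ) (q : ℕ) : List Rec :=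
  (keys A B Q).flatMap fun v =>
    List.replicate (B.count v) (v, true) ++ List.replicate (num A B Q q v - B.count v) (v, false)

/-- The degrees fit together. -/
def fits (A B Q : List ℕ) (q : ℕ) : Bool :=
  B.all (fun v => Nat.ble (B.count v) (num A B Q q v)) &&
    Q.all fun v => v % 11 == 0 || Nat.ble (Q.count v) (A.count v)

/-- Degrees prime to `q` appear in a self-centralising block for `q`. -/
def covers (A B Q : List ℕ) (q : ℕ) : Bool :=
  (A ++ B).all fun v => v % q == 0 || (Nat.ble (A.count v) (Q.count v) && Nat.ble (B.count v) (Q.count v))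

/-- What is known at a place. -/
structure Node where
  deg : ℕ
  w0 : ℤ
  wq : ℤ
  wf : ℤ
  cof : ℤ
  dom : List ℤ
  same : Bool

/-- The blocks that matter: the free one and the one with self-centralising Sylow subgroup. -/
abbrev Cfg : Type := Dat × Dat

/-- The exceptional prime. -/
def x11 : Dat := (11, 8064, 1)

/-- A place from a record. -/
def mkNode (k : Cfg) (dom : Rec → List ℤ) (prev : Option Rec) (r : Rec) : Node where
  deg := r.1
  w0 := wt x11 r.1
  wq := wt k.2 r.1
  wf := if r.2 then wt k.1 r.1 else 0
  cof := ((ord / r.1 : ℕ) : ℤ)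
  dom := dom r
  same := match prev with
    | none => false
    | some u => u.1 == r.1 && (isY x11 r.1 || isY k.2 r.1 || (u.2 && r.2 && isY k.1 r.1))

/-- The places from the records. -/
def nodes (k : Cfg) (dom : Rec → List ℤ) : Option Rec → List Rec → List Node
  | _, [] => []
  | p, r :: l => mkNode k dom p r :: nodes k dom (some r) l

/-- All vectors below a bound for the squares. -/
def extend : List Node → ℤ → ℤ → List (List ℤ)
  | [], _, _ => [[]]
  | a :: l, prev, b =>
      (if a.same then a.dom.filter (fun v => v == prev) else a.dom).flatMap fun v =>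
        if v * v ≤ b then (extend l v (b - v * v)).map (v :: ·) else []

/-- A weighted sum. -/
def tot (f : Node → ℤ → ℤ) : List Node → List ℤ → ℤ
  | a :: l, v :: m => f a v + tot f l m
  | _, _ => 0

/-- The last two places are the exceptional characters for 11. -/
def shape : List Node → Bool
  | [a, b] => b.same && a.deg == b.deg && (a.w0 == 1 || a.w0 == -1) && a.w0 == b.w0
  | _ => false

/-- The vectors on the block for 11 whose weighted sum vanishes. -/
def solve0 (L : List Node) (b : ℤ) : List (List ℤ) :=
  let L1 := L.take (L.length - 2)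
  let L2 := L.drop (L.length - 2)
  if shape L2 then
    (extend L1 0 b).flatMap fun a =>
      let v := -(tot (fun n x => n.w0 * x) L1 a / 2) * (L2.headD (mkNode (x11, x11) (fun _ => []) none (1, false))).w0
      if L2.all (fun n => n.dom.contains v) && decide (tot (fun n x => n.w0 * x) L (a ++ [v, v]) = 0) then
        [a ++ [v, v]]
      else []
  else (extend L 0 b).filter fun a => decide (tot (fun n x => n.w0 * x) L a = 0)

/-- Structure constants with an element of order 11 (always twice the sum). -/
def quad (w : Node → ℤ) (L : List Node) (a : List ℤ) : ℤ := tot (fun n x => w n * x * x * n.cof) L a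

/-- The columns on the union, given the vanishing of the structure constant for 11. -/
def columns (L : List Node) (b : ℤ) (ok : List ℤ → Bool) : List (List ℤ) :=
  let n0 := (L.takeWhile fun n => n.deg % 11 != 0).length
  ((solve0 (L.take n0) b).filter fun a => decide (quad (·.w0) (L.take n0) a = 0)).flatMap fun a =>
    ((extend (L.drop n0) 0 (b - (a.map fun x => x * x).sum)).map (a ++ ·)).filter ok

/-- The squares of the degrees left over. -/
def rest (R : List Rec) : ℤ := (ord : ℤ) - (R.map fun r => (r.1 : ℤ) * r.1).sum

/-- The characters outside fit. -/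
def restOK (R : List Rec) (m : ℕ) : Bool :=
  decide (0 ≤ rest R) && decide (rest R % ((m * m : ℕ) : ℤ) = 0)

/-- Orthogonality to the degrees leaves room for the characters outside. -/
def roomOK (R : List Rec) (L : List Node) (m C : ℕ) (a : List ℤ) : Bool :=
  let lin := tot (fun n x => (n.deg : ℤ) * x) L a
  decide (lin % (m : ℤ) = 0) && decide (lin * lin ≤ rest R * ((C : ℤ) - (a.map fun x => x * x).sum))

/-- The multiples of the step between two bounds. -/
def multiples (g b : ℕ) : List ℤ :=
  (List.range (2 * (b / g) + 1)).map fun i : ℕ => ((i : ℤ) - ((b / g : ℕ) : ℤ)) * (g : ℤ)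

/-- The step of the values forced by the class sum. -/
def step (C deg : ℕ) : ℕ := deg / Nat.gcd (ord / C) deg

/-- Values at an involution with centraliser of order `C`, commuting with the free prime or not. -/
def invDom (k : Cfg) (cong : Bool) (C : ℕ) (r : Rec) : List ℤ :=
  if r.1 == 1 then [1] else
  (multiples (step C r.1) (min (r.1 - 1) (Nat.sqrt C))).filter fun v =>
    decide (((r.1 : ℤ) - v) % 4 = 0) &&
      (!(cong && r.2) || (r.1 % k.1.1 != 1 && r.1 % k.1.1 != k.1.1 - 1) ||
        decide ((v - (if r.1 % k.1.1 == 1 then 1 else -1)) % (k.1.1 : ℤ) = 0))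

/-- The kind of information used besides the block for 11. -/
inductive Kind where
  | alone
  | second
  | free
  | both

/-- The columns of involutions. -/
def invCols (k : Cfg) (kind : Kind) (cong : Bool) (R : List Rec) (m C : ℕ) : List (List ℤ) :=
  let L := nodes k (invDom k cong C) none R
  columns L (C : ℤ) fun a =>
    roomOK R L m C a &&
    match kind with
    | .alone => true
    | .second => decide (tot (fun n x => n.wf * x) L a = 0) && decide (tot (fun n x => n.wq * x) L a = 0) &&
        decide (0 ≤ quad (·.wq) L a) && decide (quad (·.wq) L a % ((C * C * ss k.2 : ℕ) : ℤ) = 0)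
    | .free => decide (tot (fun n x => n.wf * x) L a = 0) && decide (tot (fun n x => n.wq * x) L a = 0) &&
        decide (quad (·.wq) L a = 0)
    | .both => decide (tot (fun n x => n.wf * x) L a = 0) && decide (tot (fun n x => n.wq * x) L a = 0) &&
        decide (quad (·.wq) L a = 0) && decide (0 ≤ quad (·.wf) L a) &&
        decide (quad (·.wf) L a % ((C * C * ss k.1 : ℕ) : ℤ) = 0)

/-- Orders of centralisers of suitable involutions centralising a Sylow subgroup. -/
def CU (x : Dat) : List ℕ :=
  let two := Nat.gcd x.2.2 128
  divs.filter fun C => C % 11 != 0 && C % (x.1 * two * 2) == 0 &&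
    divs.any fun cu => x.2.2 % cu == 0 && cu % two == 0 &&
      divs.any fun f => ee x % f == 0 && C % (x.1 * cu * f) == 0 && C / (x.1 * cu * f) % x.1 == 1

/-- Principal blocks that fit the block for 11. -/
def blks (x : Dat) (A : List ℕ) : List (List ℕ) :=
  (lists x ((A.filter fun v => v != 1).dedup ++ elevens)).filter fun B =>
    B.all (fun v => v % 11 == 0 || Nat.ble (B.count v) (A.count v)) &&
      (x.2.2 != 1 || A.all fun v => v % x.1 == 0 || Nat.ble (A.count v) (B.count v))

/-- A column on the block for 11 alone. -/
def aOnly (A : List ℕ) (C : ℕ) : Bool :=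
  let R := recs A [] [] 11
  restOK R 11 && !(invCols (x11, x11) .alone false R 11 C).isEmpty

/-- Values at a generator of the free Sylow subgroup, all of whose generators are conjugate. -/
def genDom (x : Dat) (r : Rec) : List ℤ :=
  let C := x.1 * x.2.2
  if r.2 then [if r.1 % x.1 == 1 then 1 else -1] else
  (multiples (step C r.1) (Nat.sqrt C)).filter fun v => decide (((r.1 : ℤ) - v) % (x.1 : ℤ) = 0)

/-- The columns of such a generator. -/
def genCols (k : Cfg) (R : List Rec) (m : ℕ) : List (List ℤ) :=
  let C := k.1.1 * k.1.2.2
  let L := nodes k (genDom k.1) none R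
  let n0 := (L.takeWhile fun n => n.deg % 11 != 0).length
  ((solve0 (L.take n0) (C : ℤ)).filter fun a =>
      decide (0 ≤ quad (·.w0) (L.take n0) a) &&
        decide (quad (·.w0) (L.take n0) a % ((C * C * ss x11 : ℕ) : ℤ) = 0)).flatMap fun a =>
    ((extend (L.drop n0) 0 ((C : ℤ) - (a.map fun x => x * x).sum)).map (a ++ ·)).filter fun a =>
      roomOK R L m C a && decide (tot (fun n x => n.wq * x) L a = 0) && decide (0 ≤ quad (·.wq) L a) &&
        decide (quad (·.wq) L a % ((C * C * ss k.2 : ℕ) : ℤ) = 0)

/-- A structure constant with two columns. -/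
def quad2 (w : Node → ℤ) (L : List Node) (a b : List ℤ) : ℤ :=
  ((L.zip (a.zip b)).map fun z => w z.1 * z.2.1 * z.2.2 * z.1.cof).sum

/-- No involution column is compatible with a column of a generator. -/
def crossFree (k : Cfg) (R : List Rec) (m C : ℕ) : Bool :=
  let L := nodes k (invDom k true C) none R
  let D := k.1.1 * k.1.2.2
  (invCols k .free true R m C).all fun a => (genCols k R m).all fun b =>
    !(decide (quad2 (·.w0) L a b % ((C * D * ss x11 : ℕ) : ℤ) = 0) &&
      decide (quad2 (·.wq) L a b % ((C * D * ss k.2 : ℕ) : ℤ) = 0))

/-- Values at an element of 3-power order. -/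
def triDom (C : ℕ) (r : Rec) : List ℤ :=
  if r.1 == 1 then [1] else
  (multiples (step C r.1) (min r.1 (Nat.sqrt C))).filter fun v => decide (((r.1 : ℤ) - v) % 3 = 0)

end CfsgLib.M22Order
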