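/-
Kernel check: the Sylow data for 11, 7 and 5 in a simple group of order 443520.
-/
import Cfsg.Agent.M22Id.Order.Search
import Cfsg.Agent.SmallSimple.SylowCheck

set_option autoImplicit false

namespace CfsgLib.M22Order

open CfsgLib.SylowCheck

/-- The possible data for 7. -/
def X7 : List Dat := [(7, 330, 64), (7, 330, 32), (7, 2640, 12), (7, 2640, 8), (7, 2640, 4), (7, 21120, 1)]

/-- The possible data for 5. -/
def X5 : List Dat :=
  [(5, 231, 192), (5, 231, 96), (5, 616, 36), (5, 1386, 32), (5, 1386, 16), (5, 3696, 12), (5, 3696, 6),
    (5, 22176, 2), (5, 22176, 1)]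

/-- Data with a possible principal block. -/
def blocky (p : ℕ) : List Dat := (opts divs ord p).filter fun x => !(lists x small).isEmpty

/-- The data are among the listed ones. -/
def dataOK : Bool :=
  (blocky 11).all fun a => (blocky 7).all fun b =>
    !(compat divs a b && compat divs b a) || (a == x11 && X7.contains b && (blocky 5).all fun c =>
      !(compat divs a c && compat divs c a && compat divs b c && compat divs c b) || X5.contains c)

theorem dataOK_eq : dataOK = true := by decide +kernel

end CfsgLib.M22Order
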