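/-
The statements checked by computation for the group of order 443520.
-/
import Cfsg.Agent.M22Id.Order.Search
import Cfsg.Agent.M22Id.Order.CheckSylow
import Cfsg.Agent.M22Id.Order.Tables

set_option autoImplicit false

namespace CfsgLib.M22Order

/-- Sylow 5-subgroup self-centralising. -/
def x5u : Dat := (5, 22176, 1)

/-- Sylow 7-subgroup self-centralising. -/
def x7u : Dat := (7, 21120, 1)

/-- The blocks for 7 and 5 exclude each other unless 7 or 5 is self-centralising; then they exclude the
latter case for 5. -/
def stageA (x : Dat) (cs : List ℕ) (A : List ℕ) : Bool :=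
    let Bs := blks x A
    Bs.isEmpty || !cs.any (aOnly A) || ((CU5.all fun C => !aOnly A C) &&
      (blks x5u A).all fun Q => Bs.all fun B =>
        !(fits A B Q 5) || !(covers A B Q 5) || !(restOK (recs A B Q 5) 55) ||
          cs.all fun C => C % 5 == 0 || (invCols (x, x5u) .second true (recs A B Q 5) 55 C).isEmpty)

/-- Sylow 7-subgroup self-centralising, the one for 5 not. -/
def stageB (x : Dat) (cs0 : List ℕ) (A : List ℕ) : Bool :=
  let cs := cs0.filter fun C => C % 7 != 0
    let Qs := blks x7u A
    Qs.isEmpty || !cs.any (aOnly A) || Qs.all fun Q => (blks x A).all fun B =>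
      !(fits A B Q 7) || !(covers A B Q 7) || !(restOK (recs A B Q 7) 77) ||
        cs.all fun C => crossFree (x, x7u) (recs A B Q 7) 77 C

/-- The degrees in the union of the three blocks. -/
def R0 : List Rec :=
  [(1, true), (21, true), (45, false), (45, false), (210, false), (280, false), (280, false), (55, false),
    (231, true), (99, true), (154, true)]

/-- The column of an involution. -/
def Z0 : List ℤ := [1, 5, -3, -3, 2, -8, -8, 7, 7, 3, 10]

/-- All three Sylow subgroups self-centralising. -/
def stageC : Bool :=
  L11.all fun A => (blks x7u A).all fun Q => (blks x5u A).all fun B =>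
    !(fits A B Q 7) || !(covers A B Q 7) || !(covers A Q B 5) || !(restOK (recs A B Q 7) 385) ||
      evens.all fun C => (invCols (x5u, x7u) .both false (recs A B Q 7) 385 C).all fun a =>
        recs A B Q 7 == R0 && C == 384 && a == Z0

/-- The possible columns at elements of order 3 or 9, with the value of the character outside. -/
def triples : List (ℕ × List ℤ × ℤ) :=
  [(9, [1, 0, 0, 0, 0, 1, 1, 1, 0, 0, 1], -2), (36, [1, -3, 0, 0, -3, 1, 1, 1, 3, 0, 1], -2),
    (36, [1, 3, 0, 0, 3, 1, 1, 1, -3, 0, 1], -2)]

/-- The values allowed at a given degree. -/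
def tdom (C d : ℕ) : List ℤ := triDom C (d, false)

/-- The rest of the column from four values, by the relations of the blocks and orthogonality to the
column of an involution. -/
def triStep (C : ℕ) (a b c h : ℤ) : Bool :=
  let d := 1 - a + 2 * b + c
  let f := 1 - b + h
  let i0 := 1 + a - h
  let K := 385 * (1 + 5 * a - 6 * b + 2 * c - 16 * d + 7 * f + 3 * h + 10 * i0) -
    (1 + 21 * a + 90 * b + 210 * c + 560 * d + 55 * f + 99 * h + 154 * i0)
  if K % 6160 == 0 then
    let g := -(K / 6160)
    let i := i0 + g
    let lin := 1 + 21 * a + 90 * b + 210 * c + 560 * d + 55 * f + 231 * g + 99 * h + 154 * i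
    let j := -(lin / 385)
    decide (lin % 385 ≠ 0) ||
      decide (1 + a * a + 2 * (b * b) + c * c + 2 * (d * d) + f * f + g * g + h * h + i * i + j * j ≠ (C : ℤ)) ||
      !((tdom C 280).contains d && (tdom C 55).contains f && (tdom C 231).contains g && (tdom C 154).contains i) ||
      triples.contains (C, [1, a, b, b, c, d, d, f, g, h, i], j)
  else true

/-- The columns of elements of 3-power order. -/
def stageD : Bool :=
  (threes.filter fun C => C % 9 == 0).all fun C => (tdom C 21).all fun a => (tdom C 45).all fun b =>
    (tdom C 210).all fun c => decide ((C : ℤ) < a * a + 2 * (b * b) + c * c) ||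
      (tdom C 99).all fun h => triStep C a b c h

/-- Two such columns are not orthogonal. -/
def triInner : Bool :=
  triples.all fun x => triples.all fun y =>
    decide ((List.zipWith (· * ·) x.2.1 y.2.1).sum + x.2.2 * y.2.2 ≠ 0)

end CfsgLib.M22Order
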