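/-
Kernel check: the Sylow 7-subgroup of a simple group of order 443520, part 3.
-/
import Cfsg.Agent.M22Id.Order.CheckDefs

set_option autoImplicit false
set_option Elab.async false

namespace CfsgLib.M22Order

theorem stageA_1_3 : (L11.drop 96).all (stageA (7, 330, 64)
    []) = true := by
  decide +kernel

theorem stageA_2_3 : (L11.drop 96).all (stageA (7, 330, 32)
    [448, 1344, 6720, 20160, 8064]) = true := by
  decide +kernel

theorem stageA_3_3 : (L11.drop 96).all (stageA (7, 2640, 12)
    [56, 168, 840, 2520, 1008, 224, 672, 3360, 2016, 10080, 448, 1344, 6720, 20160, 8064]) = true := by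
  decide +kernel

theorem stageA_4_3 : (L11.drop 96).all (stageA (7, 2640, 8)
    [2016, 448, 1344, 6720, 20160]) = true := by
  decide +kernel

theorem stageA_5_3 : (L11.drop 96).all (stageA (7, 2640, 4)
    [56, 168, 840, 2520, 1008, 224, 672, 3360, 2016, 10080, 448, 1344, 6720, 20160, 8064]) = true := by
  decide +kernel

end CfsgLib.M22Order
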