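/-
Kernel check: no triples of blocks when the automiser of the Sylow 5-subgroup has order two.
-/
import Cfsg.Agent.M22Id.Order.CheckDefs

set_option autoImplicit false
set_option Elab.async false

namespace CfsgLib.M22Order

/-- No blocks fit. -/
def stageB0 (x : Dat) (cs0 : List ℕ) (A : List ℕ) : Bool :=
  let cs := cs0.filter fun C => C % 7 != 0
  let Qs := blks x7u A
  Qs.isEmpty || !cs.any (aOnly A) || Qs.all fun Q => (blks x A).all fun B =>
    !(fits A B Q 7) || !(covers A B Q 7) || !(restOK (recs A B Q 7) 77)

theorem stageB0_1 : L11.all (stageB0 (5, 231, 192)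
    [640, 1920, 13440, 5760, 40320]) = true := by
  decide +kernel

theorem stageB0_2 : L11.all (stageB0 (5, 1386, 32)
    [320, 960, 6720, 20160, 1920, 5760, 40320]) = true := by
  decide +kernel

theorem stageB0_3 : L11.all (stageB0 (5, 3696, 12)
    [40, 120, 840, 360, 2520, 240, 720, 5040, 1120, 3360, 1440, 320, 2240, 960, 6720, 20160, 640, 1920, 13440, 5760, 40320]) = true := by
  decide +kernel

theorem stageB0_4 : L11.all (stageB0 (5, 22176, 2)
    [20, 60, 420, 1260, 120, 360, 2520, 560, 720, 160, 1120, 3360, 320, 960, 6720, 20160, 1920, 5760, 40320]) = true := by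
  decide +kernel

end CfsgLib.M22Order
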