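/-
Kernel check: the Sylow 5-subgroup of a simple group of order 443520, part 2.
-/
import Cfsg.Agent.M22Id.Order.CheckDefs

set_option autoImplicit false
set_option Elab.async false

namespace CfsgLib.M22Order

theorem stageB_1_2 : (L11.drop 71).all (stageB (5, 231, 192)
    [640, 1920, 13440, 5760, 40320]) = true := by
  decide +kernel

theorem stageB_2_2 : (L11.drop 71).all (stageB (5, 231, 96)
    [320, 960, 6720, 2880, 20160, 640, 1920, 13440, 5760, 40320]) = true := by
  decide +kernel

theorem stageB_3_2 : (L11.drop 71).all (stageB (5, 616, 36)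
    [40, 120, 840, 360, 2520, 80, 240, 1680, 720, 5040, 1120, 480, 3360, 1440, 10080, 320, 2240, 960, 6720, 2880, 20160, 640, 4480, 1920, 13440, 5760, 40320]) = true := by
  decide +kernel

theorem stageB_4_2 : (L11.drop 71).all (stageB (5, 1386, 32)
    [320, 960, 6720, 20160, 1920, 5760, 40320]) = true := by
  decide +kernel

theorem stageB_5_2 : (L11.drop 71).all (stageB (5, 1386, 16)
    [160, 480, 3360, 10080, 320, 960, 6720, 2880, 20160, 4480, 1920, 5760, 40320]) = true := by
  decide +kernel

theorem stageB_6_2 : (L11.drop 71).all (stageB (5, 3696, 12)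
    [40, 120, 840, 360, 2520, 240, 720, 5040, 1120, 3360, 1440, 320, 2240, 960, 6720, 20160, 640, 1920, 13440, 5760, 40320]) = true := by
  decide +kernel

theorem stageB_7_2 : (L11.drop 71).all (stageB (5, 3696, 6)
    [20, 60, 420, 180, 1260, 40, 120, 840, 360, 2520, 560, 240, 1680, 720, 5040, 160, 1120, 480, 3360, 1440, 10080, 320, 2240, 960, 6720, 2880, 20160, 640, 1920, 13440, 5760, 40320]) = true := by
  decide +kernel

theorem stageB_8_2 : (L11.drop 71).all (stageB (5, 22176, 2)
    [20, 60, 420, 1260, 120, 360, 2520, 560, 720, 160, 1120, 3360, 320, 960, 6720, 20160, 1920, 5760, 40320]) = true := by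
  decide +kernel

end CfsgLib.M22Order
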