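/-
Kernel check: the columns of involutions and of elements of 3-power order.
-/
import Cfsg.Agent.M22Id.Order.CheckDefs

set_option autoImplicit false
set_option Elab.async false

namespace CfsgLib.M22Order

theorem stageC_eq : stageC = true := by decide +kernel

theorem stageD_eq : stageD = true := by decide +kernel

theorem triInner_eq : triInner = true := by decide +kernel

end CfsgLib.M22Order
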