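import Cfsg.Agent.M22Id.Order.Lists
import Cfsg.Agent.SmallSimple.SylowCheck
import Cfsg.Agent.Solvable.PGroupBasic
import Cfsg.Agent.Char.Galois
import Mathlib.GroupTheory.Nilpotent
import Mathlib.GroupTheory.SpecificGroups.Cyclic

/-!
# Local information in a group of order 443520 from the data of a Sylow subgroup of prime order
-/

set_option autoImplicit false
set_option linter.style.haveILetI false
set_option linter.unusedSectionVars false

namespace CfsgLib.M22Order

open Subgroup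

universe u

/-- The centralizer of an element. -/
abbrev cz {G : Type u} [Group G] (g : G) : Subgroup G := centralizer ({g} : Set G)

variable {G : Type u} [Group G] [Finite G]

theorem mem_cz {g a : G} : a ∈ cz g ↔ a * g = g * a := mem_centralizer_singleton_iff

/-- Nothing of order prime to a self-centralising Sylow subgroup commutes with it. -/
theorem not_dvd_cz {x : Dat} (hx : SylowCheck.Real G x) (hc : x.2.2 = 1) {g : G} (hg : g ≠ 1)
    (hgp : ¬ x.1 ∣ orderOf g) : ¬ x.1 ∣ Nat.card (cz g) := by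
  intro hd
  haveI : Fact x.1.Prime := ⟨hx.1⟩
  obtain ⟨⟨w, hw⟩, hwo⟩ := exists_prime_orderOf_dvd_card' (G := cz g) x.1 hd
  rw [orderOf_mk] at hwo
  obtain ⟨Q, -, hQ⟩ := SylowCheck.centralizer_of_orderOf hx hwo
  have hgQ : g ∈ centralizer ((Q : Subgroup G) : Set G) :=
    hQ ▸ mem_cz.2 (mem_cz.1 hw).symm
  have h1 := Subgroup.orderOf_dvd_natCard _ hgQ
  rw [(hx.2.2.2 Q).2, hc, mul_one] at h1
  rcases (Nat.dvd_prime hx.1).1 h1 with h | h
  · exact hg (orderOf_eq_one_iff.1 h)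
  · exact hgp (h ▸ dvd_rfl)

theorem le_centralizer_of_prime {p : ℕ} [Fact p.Prime] {P : Subgroup G} (hP : Nat.card P = p) :
    P ≤ centralizer (P : Set G) := fun a ha => mem_centralizer_iff.2 fun b hb => by
  haveI : IsCyclic P := isCyclic_of_prime_card hP
  exact congrArg Subtype.val (mul_comm' (⟨b, hb⟩ : P) ⟨a, ha⟩)

set_option maxHeartbeats 800000 in
/-- An involution that centralises a Sylow subgroup of order `p` and has a large centraliser. -/
theorem exists_invol (hG : Nat.card G = ord) {x : Dat} [Fact x.1.Prime] (hx : SylowCheck.Real G x)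
    (hodd : x.1 % 2 = 1) (heven : x.2.2 % 2 = 0) (h128 : Nat.gcd x.2.2 128 ≠ 128)
    (h11 : ∀ g : G, orderOf g = 2 → Nat.card (cz g) % 11 ≠ 0) (S : Sylow x.1 G) :
    ∃ u : G, orderOf u = 2 ∧ u ∈ centralizer ((S : Subgroup G) : Set G) ∧ Nat.card (cz u) ∈ CU x := by
  haveI : Fact (Nat.Prime 2) := ⟨Nat.prime_two⟩
  have hp : x.1.Prime := Fact.out
  obtain ⟨hPc, hCc⟩ := hx.2.2.2 S
  set P := (S : Subgroup G)
  set C := centralizer (P : Set G) with hC
  set N := normalizer (P : Set G) with hN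
  set two := Nat.gcd x.2.2 128 with htwo
  have hPC : P ≤ C := le_centralizer_of_prime hPc
  obtain ⟨Q⟩ : Nonempty (Sylow 2 C) := inferInstance
  obtain ⟨a, ha⟩ := IsPGroup.iff_card.1 Q.isPGroup'
  have hQdvd : Nat.card (Q : Subgroup C) ∣ x.1 * x.2.2 := hCc ▸ card_subgroup_dvd_card _
  have hp2 : Nat.Coprime 2 x.1 := (Nat.coprime_primes Nat.prime_two hp).2 (by omega)
  have hCord : x.1 * x.2.2 ∣ ord := hG ▸ hCc ▸ card_subgroup_dvd_card C
  have hQtwo : Nat.card (Q : Subgroup C) = two := by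
    refine Nat.dvd_antisymm (Nat.dvd_gcd ?_ ?_) ?_
    · rw [ha] at hQdvd ⊢
      exact (Nat.Coprime.pow_left a hp2).dvd_of_dvd_mul_left hQdvd
    · have h1 : 2 ^ a ∣ 128 * 3465 := by rw [← ha]; exact hQdvd.trans hCord
      rw [ha]
      exact (Nat.Coprime.pow_left a (by norm_num : Nat.Coprime 2 3465)).dvd_of_dvd_mul_right h1
    · obtain ⟨b, -, hb⟩ := (Nat.dvd_prime_pow Nat.prime_two).1 (show two ∣ 2 ^ 7 from Nat.gcd_dvd_right _ _)
      rw [Q.card_eq_multiplicity, hb]
      refine pow_dvd_pow 2 ((Nat.prime_two.pow_dvd_iff_le_factorization Nat.card_pos.ne').1 ?_)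
      rw [← hb, hCc]
      exact (Nat.gcd_dvd_left _ _).mul_left _
  set T := (Q : Subgroup C).map C.subtype with hT
  have hTC : T ≤ C := map_subtype_le _
  have hTcard : Nat.card T = two := by rw [hT, card_map_of_injective C.subtype_injective, hQtwo]
  have htwo2 : 2 ∣ two := Nat.dvd_gcd (Nat.dvd_of_mod_eq_zero heven) (by norm_num)
  obtain ⟨S2, hS2⟩ := (IsPGroup.map Q.isPGroup' C.subtype : IsPGroup 2 T).exists_le_sylow
  haveI : Group.IsNilpotent (S2 : Subgroup G) := IsPGroup.isNilpotent S2.isPGroup'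
  set T' := T.subgroupOf (S2 : Subgroup G) with hT'
  have hT'card : Nat.card T' = two := by rw [Nat.card_congr (subgroupOfEquivOfLe hS2).toEquiv, hTcard]
  have hne : T' ≠ ⊤ := fun h => h128 (by
    rw [h, card_top, CfsgLib.SmallSimple.card_sylow_eq S2 (k := 7) (m := 3465) (hG.trans (by norm_num [ord]))
      (by norm_num)] at hT'card
    exact hT'card.symm.trans (by norm_num))
  have hlt : T' < normalizer (T' : Set (S2 : Subgroup G)) := Group.normalizerCondition_of_isNilpotent T' hne.lt_top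
  set R' := normalizer (T' : Set (S2 : Subgroup G)) with hR'
  have hR2 : IsPGroup 2 R' := S2.isPGroup'.to_subgroup R'
  haveI : Group.IsNilpotent R' := hR2.isNilpotent
  haveI : (T'.subgroupOf R').Normal := normal_in_normalizer
  have hTne : T'.subgroupOf R' ≠ ⊥ := fun h => by
    have h1 : Nat.card (T'.subgroupOf R') = two := by rw [Nat.card_congr (subgroupOfEquivOfLe hlt.le).toEquiv, hT'card]
    rw [h, card_bot] at h1
    rw [← h1] at htwo2
    norm_num at htwo2
  obtain ⟨⟨v, hv⟩, hv1⟩ : ∃ v : (T'.subgroupOf R' ⊓ center R' : Subgroup R'), v ≠ 1 := by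
    haveI := (nontrivial_iff_ne_bot _).2 (CfsgLib.PGroupBasic.inf_center_ne_bot _ hTne)
    exact exists_ne 1
  obtain ⟨k, hk⟩ := (hR2.to_subgroup (T'.subgroupOf R' ⊓ center R')) ⟨v, hv⟩
  have hk' : v ^ 2 ^ k = 1 := congrArg Subtype.val hk
  obtain ⟨w, hwT, hwZ, hwo⟩ : ∃ w : R', w ∈ T'.subgroupOf R' ∧ w ∈ center R' ∧ orderOf w = 2 := by
    have hvd : orderOf v ∣ 2 ^ k := orderOf_dvd_of_pow_eq_one hk'
    have h2 : 2 ∣ orderOf v := by
      obtain ⟨i, -, hi⟩ := (Nat.dvd_prime_pow Nat.prime_two).1 hvd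
      rcases Nat.eq_zero_or_pos i with h0 | h0
      · rw [h0, pow_zero, orderOf_eq_one_iff] at hi
        exact absurd (Subtype.ext hi) hv1
      · rw [hi]; exact dvd_pow_self 2 h0.ne'
    obtain ⟨m, hm⟩ := h2
    have hm0 : 0 < orderOf v := orderOf_pos v
    refine ⟨v ^ m, pow_mem (mem_inf.1 hv).1 m, pow_mem (mem_inf.1 hv).2 m, ?_⟩
    rw [orderOf_pow' v (by omega : m ≠ 0), Nat.gcd_eq_right ⟨2, by rw [hm, mul_comm]⟩, hm,
      Nat.mul_div_cancel _ (by omega : 0 < m)]
  set u : G := ((w : (S2 : Subgroup G)) : G) with hu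
  have hu2 : orderOf u = 2 := by rw [hu, Subgroup.orderOf_coe, Subgroup.orderOf_coe, hwo]
  have huT : u ∈ T := mem_subgroupOf.1 (mem_subgroupOf.1 hwT)
  refine ⟨u, hu2, hTC huT, ?_⟩
  set Cu := cz u with hCu
  set R := R'.map (S2 : Subgroup G).subtype with hR
  have hRCu : R ≤ Cu := by
    rintro _ ⟨r, hr, rfl⟩
    refine mem_cz.2 ?_
    have := congrArg Subtype.val (Subgroup.mem_center_iff.1 hwZ ⟨r, hr⟩)
    exact congrArg Subtype.val this
  have hTCu : T ≤ Cu := fun t ht => hRCu ⟨⟨t, hS2 ht⟩, hlt.le (mem_subgroupOf.2 ht), rfl⟩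
  have hR2two : two * 2 ∣ Nat.card Cu := by
    refine Dvd.dvd.trans ?_ (card_dvd_of_le hRCu)
    rw [hR, card_map_of_injective (subtype_injective _)]
    obtain ⟨i, hi⟩ := IsPGroup.iff_card.1 hR2
    obtain ⟨b, -, hb⟩ := (Nat.dvd_prime_pow Nat.prime_two).1 (show two ∣ 2 ^ 7 from Nat.gcd_dvd_right _ _)
    rw [hb, hi, ← pow_succ]
    refine pow_dvd_pow 2 ?_
    by_contra hle
    refine hlt.ne (eq_of_le_of_card_ge hlt.le ?_)
    rw [hT'card, hb, hi]
    exact Nat.pow_le_pow_right two_pos (by omega)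
  have hPCu : P ≤ Cu := fun a ha => mem_cz.2 (mem_centralizer_iff.1 (hTC huT) a ha)
  have hpCu : x.1 ∣ Nat.card Cu := hPc ▸ card_dvd_of_le hPCu
  set D := C ⊓ Cu
  obtain ⟨cu, hcu⟩ : x.1 ∣ Nat.card D := hPc ▸ card_dvd_of_le (le_inf hPC hPCu)
  have hcuc : cu ∣ x.2.2 := Nat.dvd_of_mul_dvd_mul_left hp.pos (hcu ▸ hCc ▸ card_dvd_of_le inf_le_left)
  have htwop : Nat.Coprime two x.1 := by
    obtain ⟨b, -, hb⟩ := (Nat.dvd_prime_pow Nat.prime_two).1 (show two ∣ 2 ^ 7 from Nat.gcd_dvd_right _ _)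
    rw [hb]; exact Nat.Coprime.pow_left b hp2
  have htwocu : two ∣ cu := htwop.dvd_of_dvd_mul_left (hcu ▸ hTcard ▸ card_dvd_of_le (le_inf hTC hTCu))
  set M := N ⊓ Cu
  have hDM : D ≤ M := inf_le_inf_right _ (centralizer_le_normalizer _)
  obtain ⟨f, hf⟩ : ∃ f, D.relIndex M = f := ⟨_, rfl⟩
  have hMcard : Nat.card M = x.1 * cu * f := by
    rw [← hcu, ← hf, relIndex, ← Nat.card_congr (subgroupOfEquivOfLe hDM).toEquiv, card_mul_index]
  have hfe : f ∣ C.relIndex N := by
    rw [← hf, show D.relIndex M = C.relIndex M by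
      rw [show D = C ⊓ M by
        refine le_antisymm (le_inf inf_le_left hDM) (le_inf inf_le_left (inf_le_right.trans inf_le_right)), inf_relIndex_right]]
    haveI : (C.subgroupOf N).Normal := by
      rw [hC, hN, ← normalizerMonoidHom_ker]
      exact MonoidHom.normal_ker _
    rw [← relIndex_subgroupOf (H := C) (inf_le_left : M ≤ N)]
    exact relIndex_dvd_index_of_normal _ _
  have hsyl : ∃ n, n % x.1 = 1 ∧ n * (x.1 * cu * f) = Nat.card Cu := by
    let P' : Sylow x.1 Cu := S.subtype hPCu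
    refine ⟨Nat.card (Sylow x.1 Cu), Eq.trans (card_sylow_modEq_one x.1 Cu) (Nat.mod_eq_of_lt hp.one_lt), ?_⟩
    have h1 := CfsgLib.SmallSimple.card_sylow_mul P'
    rw [← hMcard, ← h1]
    congr 1
    rw [show (P' : Subgroup Cu) = P.subgroupOf Cu from rfl, ← subgroupOf_normalizer_eq hPCu]
    refine (Nat.card_congr ?_).symm
    exact (MulEquiv.subgroupCongr (inf_subgroupOf_right N Cu).symm).toEquiv.trans (subgroupOfEquivOfLe inf_le_right).toEquiv
  obtain ⟨m, hm⟩ := hsyl
  have hCud : Nat.card Cu ∣ ord := hG ▸ card_subgroup_dvd_card Cu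
  have heq : C.relIndex N = ee x := by
    have h1 : Nat.card N = x.1 * x.2.2 * C.relIndex N := by
      rw [← hCc, relIndex, ← Nat.card_congr (subgroupOfEquivOfLe (centralizer_le_normalizer _ : C ≤ N)).toEquiv,
        card_mul_index]
    have h2 := CfsgLib.SmallSimple.card_sylow_mul S
    rw [hx.2.2.1, hG] at h2
    change x.2.1 * Nat.card N = ord at h2
    rw [h1] at h2
    have hpos : 0 < x.1 * x.2.2 * x.2.1 :=
      Nat.mul_pos (hCc ▸ Nat.card_pos) (hx.2.2.1 ▸ Nat.card_pos)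
    unfold ee
    rw [← h2, show x.2.1 * (x.1 * x.2.2 * C.relIndex N) = C.relIndex N * (x.1 * x.2.2 * x.2.1) by ring,
      Nat.mul_div_cancel _ hpos]
  have hcord : x.2.2 ∣ ord := (Dvd.intro_left _ rfl).trans hCord
  simp only [CU, List.mem_filter, List.any_eq_true, Bool.and_eq_true, beq_iff_eq, bne_iff_ne, ne_eq]
  refine ⟨mem_divs hCud, ⟨h11 u hu2, ?_⟩, cu, mem_divs (hcuc.trans hcord),
    ⟨Nat.mod_eq_zero_of_dvd hcuc, Nat.mod_eq_zero_of_dvd htwocu⟩, f, ?_, ⟨?_, ?_⟩, ?_⟩
  · refine Nat.mod_eq_zero_of_dvd ?_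
    rw [mul_assoc]
    exact (Nat.Coprime.mul_right htwop.symm hp2.symm).mul_dvd_of_dvd_of_dvd hpCu hR2two
  · refine mem_divs (hfe.trans ?_)
    rw [← hG, relIndex, index_eq_card]
    exact (card_quotient_dvd_card _).trans (card_subgroup_dvd_card N)
  · exact Nat.mod_eq_zero_of_dvd (heq ▸ hfe)
  · exact Nat.mod_eq_zero_of_dvd ⟨m, by rw [mul_comm, hm.2]⟩
  · rw [← hm.2, Nat.mul_div_cancel _ (hMcard ▸ Nat.card_pos), hm.1]

/-- All generators of a Sylow subgroup with full automiser are conjugate, so the values there are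
integers. -/
theorem exists_int_gen {x : Dat} [Fact x.1.Prime] (S : Sylow x.1 G) (hP : Nat.card (S : Subgroup G) = x.1)
    (he : (centralizer ((S : Subgroup G) : Set G)).relIndex (normalizer ((S : Subgroup G) : Set G)) = x.1 - 1)
    (hdvd : x.1 ∣ Nat.card G) {z : G} (hz : z ∈ (S : Subgroup G)) {χ : G → ℂ} (hχ : Cfsg.IsCharacter G χ) :
    ∃ m : ℤ, χ z = m := by
  have hp : x.1.Prime := Fact.out
  refine CfsgLib.Char.IsCharacter.exists_int_apply hχ fun t ht => ?_
  refine (CfsgLib.Char.IsClassFunction.apply_eq_of_isConj (CfsgLib.Char.IsCharacter.isClassFunction hχ) ?_).symm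
  haveI : IsCyclic (S : Subgroup G) := isCyclic_of_prime_card hP
  letI := IsCyclic.commGroup (α := (S : Subgroup G))
  have hsurj : Function.Surjective ((S : Subgroup G).normalizerMonoidHom) := by
    rw [← MonoidHom.range_eq_top]
    refine eq_top_of_card_eq _ ?_
    rw [← index_ker, normalizerMonoidHom_ker, IsCyclic.card_mulAut, hP, Nat.totient_prime hp]
    exact he
  have hcop : (Nat.card (S : Subgroup G)).Coprime t := by
    rw [hP]; exact (Nat.Coprime.coprime_dvd_right hdvd ht).symm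
  obtain ⟨g, hg⟩ := hsurj (MulEquiv.ofBijective (powMonoidHom t : (S : Subgroup G) →* (S : Subgroup G))
    (powCoprime hcop).bijective)
  have h1 := congrArg (fun σ : MulAut (S : Subgroup G) => ((σ ⟨z, hz⟩ : (S : Subgroup G)) : G)) hg
  change (g : G) * z * (g : G)⁻¹ = z ^ t at h1
  exact isConj_iff.2 ⟨g, h1⟩

end CfsgLib.M22Order
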