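import Cfsg.Agent.M22Id.Order.Column
import Cfsg.Agent.M22Id.Order.Local

/-!
# The columns of involutions and of generators of Sylow subgroups are found by the searches
-/

set_option autoImplicit false
set_option linter.style.haveILetI false
set_option linter.unusedSectionVars false
set_option linter.unusedVariables false

namespace CfsgLib.M22Order

open Cfsg Finset CfsgLib.Block CfsgLib.Block.Chr CfsgLib.BrauerPairs CfsgLib.BrauerPrime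
open scoped ComplexConjugate

universe u

variable {G : Type u} [Group G] [Fintype G]

theorem x11_facts : ee x11 = 5 ∧ ss x11 = 2 ∧ x11.2.2 = 1 ∧ x11.1 = 11 := by decide +kernel

/-- The three blocks on an enumerated union. -/
structure Frame (k : Cfg) (m : ℕ) (A Bf Q : Finset (IrrCharacter G)) (PB : Subgroup G)
    (R : List Rec) (l₁ l₂ : List (IrrCharacter G)) : Prop where
  blkA : ∃ P, Block x11 P A
  nd : (l₁ ++ l₂).Nodup
  mem : ∀ χ, χ ∈ l₁ ++ l₂ ↔ χ ∈ A ∨ χ ∈ Bf ∨ χ ∈ Q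
  map : (l₁ ++ l₂).map (recOf Bf) = R
  h₁ : ∀ χ ∈ l₁, dg χ % 11 ≠ 0
  h₂ : ∀ χ ∈ l₂, dg χ % 11 = 0
  outA : ∀ χ : IrrCharacter G, ¬ 11 ∣ dg χ ↔ χ ∈ A
  blkB : Bf = ∅ ∨ Block k.1 PB Bf
  blkQ : k.2 = x11 ∨ (k.2.2.2 = 1 ∧ 0 < ee k.2 ∧ ee k.2 < k.2.1 ∧ ∃ P, Block k.2 P Q)
  restm : ∀ χ, χ ∉ l₁ ++ l₂ → m ∣ dg χ

/-- The enumeration of three blocks. -/
theorem Tri.frame {LA LB LQ : List ℕ} {q : ℕ} {A Bf Q : Finset (IrrCharacter G)} (T : Tri LA LB LQ q A Bf Q)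
    (hA : ∃ P, Block x11 P A) {k : Cfg} {m : ℕ} {PB : Subgroup G} (hB : Bf = ∅ ∨ Block k.1 PB Bf)
    (hQ : k.2 = x11 ∨ (k.2.2.2 = 1 ∧ 0 < ee k.2 ∧ ee k.2 < k.2.1 ∧ ∃ P, Block k.2 P Q))
    (hm : ∀ χ, χ ∉ A → χ ∉ Bf → χ ∉ Q → m ∣ dg χ) :
    ∃ l₁ l₂, Frame k m A Bf Q PB (recs LA LB LQ q) l₁ l₂ := by
  obtain ⟨l₁, l₂, hnd, hmem, hmap, h₁, h₂⟩ := T.exists_enum
  refine ⟨l₁, l₂, hA, hnd, hmem, hmap, h₁, h₂, T.outA, hB, hQ, fun χ hχ => hm χ ?_ ?_ ?_⟩ <;>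
    exact fun h => hχ ((hmem χ).2 (by tauto))

theorem cast_sum_map {α K : Type*} [Ring K] (l : List α) (f : α → ℤ) :
    (((l.map f).sum : ℤ) : K) = (l.map fun a => ((f a : ℤ) : K)).sum := by
  induction l with
  | nil => simp
  | cons a l ih => simp [ih]

open Classical in
theorem rat_dvd {O : Finset (IrrCharacter G)} {g : G} {m : ℕ} (hm : ∀ χ ∈ O, m ∣ dg χ) (hm0 : 0 < m) {s : ℤ}
    (hs : ∑ χ ∈ O, (dg χ : ℂ) * (χ : G → ℂ) g = s) : (m : ℤ) ∣ s := by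
  have hint : IsIntegral ℤ (∑ χ ∈ O, ((dg χ / m : ℕ) : ℂ) * (χ : G → ℂ) g) :=
    IsIntegral.sum _ fun χ _ => by
      have := CfsgLib.Char.IsCharacter.isIntegral (isCharacter_irr χ) g
      refine IsIntegral.mul ?_ this
      have h1 : IsIntegral ℤ ((((dg χ / m : ℕ) : ℤ)) : ℂ) := isIntegral_algebraMap
      rwa [Int.cast_natCast] at h1
  have hm' : (m : ℂ) ≠ 0 := Nat.cast_ne_zero.2 hm0.ne'
  have h2 : ∑ χ ∈ O, ((dg χ / m : ℕ) : ℂ) * (χ : G → ℂ) g = (s : ℂ) / (m : ℂ) := by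
    rw [← hs, sum_div]
    exact sum_congr rfl fun χ hχ => by rw [Nat.cast_div (hm χ hχ) hm']; ring
  rw [h2] at hint
  obtain ⟨w, hw⟩ := exists_int_of_isIntegral_ratCast (q := (s : ℚ) / (m : ℚ)) (by push_cast; exact hint)
  have hq : (m : ℚ) ≠ 0 := Nat.cast_ne_zero.2 hm0.ne'
  have h3 : (s : ℚ) = (w : ℚ) * (m : ℚ) := (div_eq_iff hq).1 (by exact_mod_cast hw)
  exact ⟨w, by rw [mul_comm]; exact_mod_cast h3⟩

namespace Frame

variable {k : Cfg} {m : ℕ} {A Bf Q : Finset (IrrCharacter G)} {PB : Subgroup G}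
  {R : List Rec} {l₁ l₂ : List (IrrCharacter G)} (F : Frame k m A Bf Q PB R l₁ l₂)

include F

theorem memA {χ : IrrCharacter G} (h : χ ∈ A) : χ ∈ l₁ := by
  rcases List.mem_append.1 ((F.mem χ).2 (Or.inl h)) with h1 | h1
  · exact h1
  · exact absurd (Nat.dvd_of_mod_eq_zero (F.h₂ χ h1)) ((F.outA χ).2 h)

theorem lin11 {g : G} (hg : ¬ 11 ∣ orderOf g) {v : IrrCharacter G → ℤ}
    (hv : ∀ χ ∈ l₁ ++ l₂, (χ : G → ℂ) g = v χ) :
    ((l₁ ++ l₂).map fun χ => wt x11 (dg χ) * v χ).sum = 0 := by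
  classical
  obtain ⟨P, hA⟩ := F.blkA
  rw [sum_list_eq F.nd (B := A) (fun χ h => List.mem_append_left _ (F.memA h)) _ fun χ hχ hn => by
    rw [wt_zero (by rw [x11_facts.1]; norm_num) (by rw [x11_facts.1, x11_facts.2.2.2]; norm_num)
      (not_not.1 fun h => hn ((F.outA χ).1 h)), zero_mul]]
  have h := hA.rel g hg
  rw [sum_congr rfl fun χ (hχ : χ ∈ A) => show (wt x11 (dg χ) : ℂ) * (χ : G → ℂ) g =
    ((wt x11 (dg χ) * v χ : ℤ) : ℂ) by rw [hv χ (List.mem_append_left _ (F.memA hχ))]; push_cast; rfl,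
    ← Int.cast_sum] at h
  exact_mod_cast h

theorem quad11 {a b : G} (ha : ¬ 11 ∣ orderOf a) (hb : ¬ 11 ∣ orderOf b) {va vb : IrrCharacter G → ℤ}
    (hva : ∀ χ ∈ l₁ ++ l₂, (χ : G → ℂ) a = va χ) (hvb : ∀ χ ∈ l₁ ++ l₂, (χ : G → ℂ) b = vb χ) :
    ∃ N : ℕ, (l₁.map fun χ => wt x11 (dg χ) * va χ * vb χ * ((ord / dg χ : ℕ) : ℤ)).sum =
        ((Nat.card (cz a) * Nat.card (cz b) * ss x11 : ℕ) : ℤ) * N ∧
      ((l₁ ++ l₂).map fun χ => wt x11 (dg χ) * va χ * vb χ * ((ord / dg χ : ℕ) : ℤ)).sum =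
        ((Nat.card (cz a) * Nat.card (cz b) * ss x11 : ℕ) : ℤ) * N ∧
      (a = b → a * a = 1 → N = 0) := by
  classical
  obtain ⟨P, hA⟩ := F.blkA
  obtain ⟨N, hN, h0⟩ := hA.pairs x11_facts.2.2.1 a b ha hb va vb
    (fun χ h => hva χ (List.mem_append_left _ (F.memA h))) (fun χ h => hvb χ (List.mem_append_left _ (F.memA h)))
  have hnd := F.nd
  rw [List.nodup_append] at hnd
  have hz : ∀ χ, χ ∉ A → wt x11 (dg χ) = 0 := fun χ hn =>
    wt_zero (by rw [x11_facts.1]; norm_num) (by rw [x11_facts.1, x11_facts.2.2.2]; norm_num)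
      (not_not.1 fun h => hn ((F.outA χ).1 h))
  refine ⟨N, ?_, ?_, fun h1 h2 => h0 h1 h2 (by rw [x11_facts.1])⟩
  · rw [sum_list_eq hnd.1 (B := A) (fun χ h => F.memA h) _ fun χ _ hn => by simp [hz χ hn], hN]
  · rw [sum_list_eq F.nd (B := A) (fun χ h => List.mem_append_left _ (F.memA h)) _ fun χ _ hn => by simp [hz χ hn], hN]

/-- The weight of the free block, as the searches read it. -/
theorem wf_eq (χ : IrrCharacter G) [Decidable (χ ∈ Bf)] :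
    (if (recOf Bf χ).2 then wt k.1 (recOf Bf χ).1 else 0) = if χ ∈ Bf then wt k.1 (dg χ) else 0 := by
  by_cases h : χ ∈ Bf
  · rw [if_pos (recOf_snd.2 h), if_pos h]; rfl
  · rw [if_neg fun e => h (recOf_snd.1 e), if_neg h]

theorem linB {g : G} (hB : Block k.1 PB Bf) (hg : ¬ k.1.1 ∣ orderOf g) {v : IrrCharacter G → ℤ}
    (hv : ∀ χ ∈ l₁ ++ l₂, (χ : G → ℂ) g = v χ) :
    ((l₁ ++ l₂).map fun χ => (if (recOf Bf χ).2 then wt k.1 (recOf Bf χ).1 else 0) * v χ).sum = 0 := by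
  classical
  rw [List.map_congr_left fun χ _ => by rw [F.wf_eq χ]]
  rw [sum_list_eq F.nd (B := Bf) (fun χ h => (F.mem χ).2 (Or.inr (Or.inl h))) _ fun χ _ hn => by simp [hn]]
  have h := hB.rel g hg
  rw [sum_congr rfl fun χ (hχ : χ ∈ Bf) => show (wt k.1 (dg χ) : ℂ) * (χ : G → ℂ) g =
    (((if χ ∈ Bf then wt k.1 (dg χ) else 0) * v χ : ℤ) : ℂ) by
      rw [hv χ ((F.mem χ).2 (Or.inr (Or.inl hχ))), if_pos hχ]; push_cast; rfl, ← Int.cast_sum] at h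
  exact_mod_cast h

theorem quadB {a b : G} (hB : Block k.1 PB Bf) (hc : k.1.2.2 = 1) (ha : ¬ k.1.1 ∣ orderOf a) (hb : ¬ k.1.1 ∣ orderOf b)
    {va vb : IrrCharacter G → ℤ} (hva : ∀ χ ∈ l₁ ++ l₂, (χ : G → ℂ) a = va χ)
    (hvb : ∀ χ ∈ l₁ ++ l₂, (χ : G → ℂ) b = vb χ) :
    ∃ N : ℕ, ((l₁ ++ l₂).map fun χ => (if (recOf Bf χ).2 then wt k.1 (recOf Bf χ).1 else 0) * va χ * vb χ *
        ((ord / (recOf Bf χ).1 : ℕ) : ℤ)).sum = ((Nat.card (cz a) * Nat.card (cz b) * ss k.1 : ℕ) : ℤ) * N := by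
  classical
  obtain ⟨N, hN, -⟩ := hB.pairs hc a b ha hb va vb
    (fun χ h => hva χ ((F.mem χ).2 (Or.inr (Or.inl h)))) (fun χ h => hvb χ ((F.mem χ).2 (Or.inr (Or.inl h))))
  refine ⟨N, ?_⟩
  rw [List.map_congr_left fun χ _ => by rw [F.wf_eq χ]]
  rw [sum_list_eq F.nd (B := Bf) (fun χ h => (F.mem χ).2 (Or.inr (Or.inl h))) _ fun χ _ hn => by simp [hn]]
  rw [← hN]
  exact sum_congr rfl fun χ hχ => by rw [if_pos hχ]; rfl

theorem linQ {g : G} {P : Subgroup G} (hQ : Block k.2 P Q) (hc : k.2.2.2 = 1) (he : 0 < ee k.2) (he' : ee k.2 < k.2.1)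
    (hg : ¬ k.2.1 ∣ orderOf g) {v : IrrCharacter G → ℤ} (hv : ∀ χ ∈ l₁ ++ l₂, (χ : G → ℂ) g = v χ) :
    ((l₁ ++ l₂).map fun χ => wt k.2 (dg χ) * v χ).sum = 0 := by
  classical
  rw [sum_list_eq F.nd (B := Q) (fun χ h => (F.mem χ).2 (Or.inr (Or.inr h))) _ fun χ _ hn => by
    rw [wt_zero he he' (not_not.1 fun h => hn ((hQ.out hc χ).1 h)), zero_mul]]
  have h := hQ.rel g hg
  rw [sum_congr rfl fun χ (hχ : χ ∈ Q) => show (wt k.2 (dg χ) : ℂ) * (χ : G → ℂ) g =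
    ((wt k.2 (dg χ) * v χ : ℤ) : ℂ) by rw [hv χ ((F.mem χ).2 (Or.inr (Or.inr hχ)))]; push_cast; rfl,
    ← Int.cast_sum] at h
  exact_mod_cast h

theorem quadQ {a b : G} {P : Subgroup G} (hQ : Block k.2 P Q) (hc : k.2.2.2 = 1) (he : 0 < ee k.2) (he' : ee k.2 < k.2.1)
    (ha : ¬ k.2.1 ∣ orderOf a) (hb : ¬ k.2.1 ∣ orderOf b)
    {va vb : IrrCharacter G → ℤ} (hva : ∀ χ ∈ l₁ ++ l₂, (χ : G → ℂ) a = va χ)
    (hvb : ∀ χ ∈ l₁ ++ l₂, (χ : G → ℂ) b = vb χ) :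
    ∃ N : ℕ, ((l₁ ++ l₂).map fun χ => wt k.2 (dg χ) * va χ * vb χ * ((ord / dg χ : ℕ) : ℤ)).sum =
        ((Nat.card (cz a) * Nat.card (cz b) * ss k.2 : ℕ) : ℤ) * N ∧ (a = b → a * a = 1 → ee k.2 % 2 = 1 → N = 0) := by
  classical
  obtain ⟨N, hN, h0⟩ := hQ.pairs hc a b ha hb va vb
    (fun χ h => hva χ ((F.mem χ).2 (Or.inr (Or.inr h)))) (fun χ h => hvb χ ((F.mem χ).2 (Or.inr (Or.inr h))))
  refine ⟨N, ?_, h0⟩
  rw [sum_list_eq F.nd (B := Q) (fun χ h => (F.mem χ).2 (Or.inr (Or.inr h))) _ fun χ _ hn => by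
    rw [wt_zero he he' (not_not.1 fun h => hn ((hQ.out hc χ).1 h))]; simp, hN]

open Classical in
theorem sum_split [Fintype (IrrCharacter G)] {M : Type*} [AddCommMonoid M] (f : IrrCharacter G → M) :
    ∑ χ : IrrCharacter G, f χ = ((l₁ ++ l₂).map f).sum + ∑ χ ∈ univ \ (l₁ ++ l₂).toFinset, f χ := by
  rw [← sum_sdiff (subset_univ (l₁ ++ l₂).toFinset), List.sum_toFinset f F.nd, add_comm]

open Classical in
/-- The squares of the degrees left over. -/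
theorem rest_eq [Fintype (IrrCharacter G)] (hG : Nat.card G = ord) :
    rest R = ((∑ χ ∈ univ \ (l₁ ++ l₂).toFinset, dg χ * dg χ : ℕ) : ℤ) := by
  have h := column_orth (G := G) 1 1
  rw [if_pos (IsConj.refl _), show Subgroup.centralizer ({(1 : G)} : Set G) = ⊤ by
    ext g; simp [Subgroup.mem_centralizer_singleton_iff], Subgroup.card_top, hG,
    sum_congr rfl fun (χ : IrrCharacter G) _ => show (χ : G → ℂ) 1 * conj ((χ : G → ℂ) 1) =
      (((dg χ * dg χ : ℕ) : ℤ) : ℂ) by rw [dg_one, map_natCast]; push_cast; rfl, ← Int.cast_sum] at h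
  have h' : ∑ χ : IrrCharacter G, ((dg χ * dg χ : ℕ) : ℤ) = (ord : ℤ) := by exact_mod_cast h
  rw [F.sum_split] at h'
  have hmap : ((l₁ ++ l₂).map ((fun r : Rec => (r.1 : ℤ) * r.1) ∘ recOf Bf)).sum =
      ((l₁ ++ l₂).map fun χ : IrrCharacter G => ((dg χ * dg χ : ℕ) : ℤ)).sum :=
    congrArg _ (List.map_congr_left fun χ _ => by simp [recOf])
  unfold rest
  rw [← F.map, List.map_map, hmap, ← h', Nat.cast_sum]
  ring

theorem restOK (hG : Nat.card G = ord) : restOK R m = true := by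
  classical
  letI := irrFintype (G := G)
  rw [M22Order.restOK, Bool.and_eq_true, decide_eq_true_eq, decide_eq_true_eq, F.rest_eq hG]
  refine ⟨Int.natCast_nonneg _, Int.emod_eq_zero_of_dvd (Int.natCast_dvd_natCast.2 (dvd_sum fun χ hχ => ?_))⟩
  have h := F.restm χ fun h => (mem_sdiff.1 hχ).2 (List.mem_toFinset.2 h)
  exact Nat.mul_dvd_mul h h

open Classical in
/-- Orthogonality to the degrees and the bound on the column. -/
theorem column_facts [Fintype (IrrCharacter G)] (hG : Nat.card G = ord) {g : G} (hg : g ≠ 1) {v : IrrCharacter G → ℤ}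
    (hv : ∀ χ ∈ l₁ ++ l₂, (χ : G → ℂ) g = v χ) :
    (∑ χ ∈ univ \ (l₁ ++ l₂).toFinset, (dg χ : ℂ) * (χ : G → ℂ) g =
      (((-((l₁ ++ l₂).map fun χ => (dg χ : ℤ) * v χ).sum : ℤ)) : ℂ)) ∧
    ∑ χ ∈ univ \ (l₁ ++ l₂).toFinset, ‖(χ : G → ℂ) g‖ ^ 2 =
      (Nat.card (cz g) : ℝ) - ((((l₁ ++ l₂).map fun χ => v χ * v χ).sum : ℤ) : ℝ) := by
  constructor
  · have h := column_orth (G := G) g 1
    rw [if_neg fun h => hg (isConj_one_left.1 h), sum_congr rfl fun (χ : IrrCharacter G) _ =>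
      show (χ : G → ℂ) g * conj ((χ : G → ℂ) 1) = (dg χ : ℂ) * (χ : G → ℂ) g by
        rw [dg_one, map_natCast, mul_comm], F.sum_split,
      List.map_congr_left (g := fun χ : IrrCharacter G => (((dg χ : ℤ) * v χ : ℤ) : ℂ)) fun χ hχ => by
        rw [hv χ hχ]; push_cast; rfl] at h
    rw [show ((l₁ ++ l₂).map fun χ : IrrCharacter G => (((dg χ : ℤ) * v χ : ℤ) : ℂ)).sum =
      ((((l₁ ++ l₂).map fun χ => (dg χ : ℤ) * v χ).sum : ℤ) : ℂ) from (cast_sum_map _ _).symm] at h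
    rw [Int.cast_neg]
    linear_combination h
  · have h := column_orth (G := G) g g
    rw [if_pos (IsConj.refl g), sum_congr rfl fun (χ : IrrCharacter G) _ =>
      show (χ : G → ℂ) g * conj ((χ : G → ℂ) g) = (((‖(χ : G → ℂ) g‖ ^ 2 : ℝ)) : ℂ) by
        rw [Complex.mul_conj']; push_cast; rfl, ← Complex.ofReal_sum] at h
    have h' : ∑ χ : IrrCharacter G, ‖(χ : G → ℂ) g‖ ^ 2 = (Nat.card (cz g) : ℝ) := by exact_mod_cast h
    rw [F.sum_split, List.map_congr_left (g := fun χ : IrrCharacter G => (((v χ * v χ : ℤ)) : ℝ)) fun χ hχ => by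
        rw [hv χ hχ, Complex.norm_intCast, sq_abs]; push_cast; ring] at h'
    rw [show ((l₁ ++ l₂).map fun χ : IrrCharacter G => (((v χ * v χ : ℤ)) : ℝ)).sum =
      ((((l₁ ++ l₂).map fun χ => v χ * v χ).sum : ℤ) : ℝ) from (cast_sum_map _ _).symm] at h'
    linarith

theorem sq_le (hG : Nat.card G = ord) {g : G} (hg : g ≠ 1) {v : IrrCharacter G → ℤ}
    (hv : ∀ χ ∈ l₁ ++ l₂, (χ : G → ℂ) g = v χ) :
    ((l₁ ++ l₂).map fun χ => v χ * v χ).sum ≤ (Nat.card (cz g) : ℤ) := by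
  classical
  letI := irrFintype (G := G)
  obtain ⟨-, h⟩ := F.column_facts hG hg hv
  have h0 : 0 ≤ ∑ χ ∈ univ \ (l₁ ++ l₂).toFinset, ‖(χ : G → ℂ) g‖ ^ 2 := sum_nonneg fun _ _ => sq_nonneg _
  have h1 : ((((l₁ ++ l₂).map fun χ => v χ * v χ).sum : ℤ) : ℝ) ≤ ((Nat.card (cz g) : ℤ) : ℝ) := by
    rw [Int.cast_natCast]; linarith
  exact_mod_cast h1

theorem roomOK (hG : Nat.card G = ord) (hm0 : 0 < m) {g : G} (hg : g ≠ 1) {v : IrrCharacter G → ℤ}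
    (hv : ∀ χ ∈ l₁ ++ l₂, (χ : G → ℂ) g = v χ) (dom : Rec → List ℤ) :
    roomOK R (nodes k dom none R) m (Nat.card (cz g)) ((l₁ ++ l₂).map v) = true := by
  classical
  letI := irrFintype (G := G)
  obtain ⟨hlin, hsq⟩ := F.column_facts hG hg hv
  have hre := F.rest_eq hG
  set O := univ \ (l₁ ++ l₂).toFinset
  simp only [M22Order.roomOK, Bool.and_eq_true, decide_eq_true_eq]
  rw [show nodes k dom none R = nodes k dom none ((l₁ ++ l₂).map (recOf Bf)) by rw [F.map],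
    tot_map (fun n x => (n.deg : ℤ) * x) (fun r x => (r.1 : ℤ) * x) (fun _ _ _ => rfl), hre,
    show ((l₁ ++ l₂).map fun χ => ((recOf Bf χ).1 : ℤ) * v χ) = (l₁ ++ l₂).map fun χ => (dg χ : ℤ) * v χ from rfl,
    sum_map_sq]
  set lin := ((l₁ ++ l₂).map fun χ => (dg χ : ℤ) * v χ).sum
  refine ⟨Int.emod_eq_zero_of_dvd (Int.dvd_neg.1 (rat_dvd (fun χ hχ => F.restm χ fun h =>
    (mem_sdiff.1 hχ).2 (List.mem_toFinset.2 h)) hm0 hlin)), ?_⟩
  have h1 : ‖((((-lin : ℤ)) : ℂ))‖ ≤ ∑ χ ∈ O, (dg χ : ℝ) * ‖(χ : G → ℂ) g‖ := by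
    rw [← hlin]
    refine (norm_sum_le _ _).trans (le_of_eq (sum_congr rfl fun χ _ => ?_))
    rw [norm_mul, Complex.norm_natCast]
  have h2 := sum_mul_sq_le_sq_mul_sq O (fun χ : IrrCharacter G => (dg χ : ℝ)) (fun χ => ‖(χ : G → ℂ) g‖)
  have h3 : ((lin * lin : ℤ) : ℝ) ≤ (∑ χ ∈ O, (dg χ : ℝ) * ‖(χ : G → ℂ) g‖) ^ 2 := by
    refine le_trans (le_of_eq ?_) (pow_le_pow_left₀ (norm_nonneg _) h1 2)
    rw [Complex.norm_intCast, sq_abs]
    push_cast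
    ring
  have h4 : ((lin * lin : ℤ) : ℝ) ≤ ((((∑ χ ∈ O, dg χ * dg χ : ℕ) : ℤ) *
      ((Nat.card (cz g) : ℤ) - ((l₁ ++ l₂).map fun χ => v χ * v χ).sum) : ℤ) : ℝ) := by
    refine le_trans (h3.trans h2) (le_of_eq ?_)
    rw [hsq]
    push_cast
    simp only [pow_two]
  exact_mod_cast h4

/-- Values agree where the searches ask it. -/
theorem same {g : G} (h11 : ¬ 11 ∣ orderOf g) (hq : ¬ k.2.1 ∣ orderOf g)
    (hB : ss k.1 = 1 ∨ ¬ k.1.1 ∣ orderOf g) {v : IrrCharacter G → ℤ}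
    (hv : ∀ χ ∈ l₁ ++ l₂, (χ : G → ℂ) g = v χ) :
    ∀ a ∈ l₁ ++ l₂, ∀ a' ∈ l₁ ++ l₂, (recOf Bf a).1 = (recOf Bf a').1 →
      (isY x11 (recOf Bf a).1 || isY k.2 (recOf Bf a).1 ||
        ((recOf Bf a).2 && (recOf Bf a').2 && isY k.1 (recOf Bf a).1)) = true → v a = v a' := by
  intro a ha a' ha' hd hy
  change dg a = dg a' at hd
  have key : ((a : G → ℂ) g = (a' : G → ℂ) g) → v a = v a' := fun h => by
    rw [hv a ha, hv a' ha'] at h
    exact_mod_cast h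
  have hne : ∀ {x : Dat} {d : ℕ}, 0 < ee x → ee x < x.1 → isY x d = true → ¬ x.1 ∣ d := fun he he' h hdvd => by
    simp only [isY, Nat.mod_eq_zero_of_dvd hdvd, Bool.and_eq_true, Bool.or_eq_true, beq_iff_eq] at h
    omega
  have h11case : isY x11 (dg a) = true → v a = v a' := fun h => by
    obtain ⟨P, hA⟩ := F.blkA
    have hn := hne (x := x11) (by rw [x11_facts.1]; norm_num) (by rw [x11_facts.1, x11_facts.2.2.2]; norm_num) h
    rw [x11_facts.2.2.2] at hn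
    exact key (hA.agree a ((F.outA a).1 hn) a' ((F.outA a').1 (hd ▸ hn)) hd h g (by rwa [x11_facts.2.2.2]))
  simp only [Bool.or_eq_true, Bool.and_eq_true] at hy
  rcases hy with (hy | hy) | ⟨⟨hf, hf'⟩, hy⟩
  · exact h11case hy
  · rcases F.blkQ with e | ⟨hc, he, he', P, hQ⟩
    · rw [e] at hy; exact h11case hy
    · have hn := hne he he' hy
      exact key (hQ.agree a ((hQ.out hc a).1 hn) a' ((hQ.out hc a').1 (hd ▸ hn)) hd hy g hq)
  · rcases hB with h | h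
    · simp [isY, h] at hy
    · rcases F.blkB with e | hBb
      · simp [e, recOf] at hf
      · exact key (hBb.agree a (recOf_snd.1 hf) a' (recOf_snd.1 hf') hd hy g h)

end Frame

end CfsgLib.M22Order
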