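/-
Soundness of the searches for the group of order 443520: what holds for a family of values is found.
-/
import Cfsg.Agent.M22Id.Order.Search
import Mathlib.Tactic.Ring
import Mathlib.Algebra.BigOperators.Group.List.Basic
import Mathlib.Algebra.Order.BigOperators.Group.List

set_option autoImplicit false

namespace CfsgLib.M22Order

variable {k : Cfg} {dom : Rec → List ℤ}

theorem length_nodes (p : Option Rec) (R : List Rec) : (nodes k dom p R).length = R.length := by
  induction R generalizing p with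
  | nil => rfl
  | cons r l ih => simp [nodes, ih]

theorem nodes_append {R₁ R₂ : List Rec} (p : Option Rec) (hp : ∀ r, p = some r → ∀ r' ∈ R₂, r.1 ≠ r'.1)
    (h : ∀ r ∈ R₁, ∀ r' ∈ R₂, r.1 ≠ r'.1) :
    nodes k dom p (R₁ ++ R₂) = nodes k dom p R₁ ++ nodes k dom none R₂ := by
  induction R₁ generalizing p with
  | nil =>
    cases R₂ with
    | nil => rfl
    | cons r l =>
      cases p with
      | none => rfl
      | some u =>
        have hne : (u.1 == r.1) = false := by simpa using hp u rfl r List.mem_cons_self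
        simp [nodes, mkNode, hne]
  | cons r l ih =>
    simp only [List.cons_append, nodes]
    rw [ih (some r) (fun u hu => by cases hu; exact h r List.mem_cons_self)
      fun u hu => h u (List.mem_cons_of_mem _ hu)]

theorem takeWhile_nodes {R₁ R₂ : List Rec} (h₁ : ∀ r ∈ R₁, r.1 % 11 ≠ 0) (h₂ : ∀ r ∈ R₂, r.1 % 11 = 0) :
    nodes k dom none (R₁ ++ R₂) = nodes k dom none R₁ ++ nodes k dom none R₂ ∧
      ((nodes k dom none (R₁ ++ R₂)).takeWhile fun n => n.deg % 11 != 0).length = R₁.length := by
  have hsplit : nodes k dom none (R₁ ++ R₂) = nodes k dom none R₁ ++ nodes k dom none R₂ :=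
    nodes_append none (fun r h => by cases h) fun r hr r' hr' e => h₁ r hr (e ▸ h₂ r' hr')
  refine ⟨hsplit, ?_⟩
  have hdeg : ∀ (R : List Rec) (p : Option Rec), ∀ n ∈ nodes k dom p R, ∃ r ∈ R, n.deg = r.1 := by
    intro R
    induction R with
    | nil => intro p n hn; simp [nodes] at hn
    | cons r l ih =>
      intro p n hn
      rcases List.mem_cons.1 hn with rfl | hn
      · exact ⟨r, List.mem_cons_self, rfl⟩
      · obtain ⟨u, hu, h⟩ := ih _ n hn
        exact ⟨u, List.mem_cons_of_mem _ hu, h⟩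
  rw [hsplit, List.takeWhile_append_of_pos fun n hn => by
    obtain ⟨r, hr, h⟩ := hdeg _ _ n hn
    simpa [h] using h₁ r hr, List.length_append, length_nodes]
  have hnil : ((nodes k dom none R₂).takeWhile fun n => n.deg % 11 != 0) = [] := by
    cases R₂ with
    | nil => rfl
    | cons r l => simp [nodes, mkNode, h₂ r List.mem_cons_self]
  simp [hnil]

theorem length_of_mem_extend {L : List Node} {p b : ℤ} {a : List ℤ} (h : a ∈ extend L p b) :
    a.length = L.length := by
  induction L generalizing p b a with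
  | nil => simp only [extend, List.mem_singleton] at h; simp [h]
  | cons n l ih =>
    simp only [extend, List.mem_flatMap] at h
    obtain ⟨v, -, h⟩ := h
    split at h
    · obtain ⟨t, ht, rfl⟩ := List.mem_map.1 h
      simp [ih ht]
    · simp at h

theorem mem_extend_cons {n : Node} {L : List Node} {p b v : ℤ} {a : List ℤ} :
    v :: a ∈ extend (n :: L) p b ↔
      v ∈ n.dom ∧ (n.same = true → v = p) ∧ v * v ≤ b ∧ a ∈ extend L v (b - v * v) := by
  simp only [extend, List.mem_flatMap]
  constructor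
  · rintro ⟨w, hw, h⟩
    split at h
    · next hle =>
      obtain ⟨t, ht, he⟩ := List.mem_map.1 h
      obtain ⟨rfl, rfl⟩ := List.cons.inj he
      cases hs : n.same <;> simp [hs] at hw
      · exact ⟨hw, by simp, hle, ht⟩
      · exact ⟨hw.1, fun _ => hw.2, hle, ht⟩
    · simp at h
  · rintro ⟨hd, hs, hle, ha⟩
    refine ⟨v, ?_, ?_⟩
    · cases hn : n.same <;> simp [hn]
      · exact hd
      · exact ⟨hd, hs hn⟩
    · rw [if_pos hle]; exact List.mem_map.2 ⟨a, ha, rfl⟩

theorem extend_append_left {L₁ L₂ : List Node} {p b : ℤ} {a₁ a₂ : List ℤ} (hl : a₁.length = L₁.length)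
    (h : a₁ ++ a₂ ∈ extend (L₁ ++ L₂) p b) :
    a₁ ∈ extend L₁ p b ∧ ∃ p' b', a₂ ∈ extend L₂ p' b' := by
  induction L₁ generalizing p b a₁ with
  | nil =>
    rw [List.length_nil, List.length_eq_zero_iff] at hl
    subst hl
    exact ⟨by simp [extend], p, b, h⟩
  | cons n l ih =>
    cases a₁ with
    | nil => simp at hl
    | cons v t =>
      rw [List.cons_append, List.cons_append, mem_extend_cons] at h
      obtain ⟨h1, h2⟩ := ih (by simpa using hl) h.2.2.2
      exact ⟨mem_extend_cons.2 ⟨h.1, h.2.1, h.2.2.1, h1⟩, h2⟩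

theorem tot_append {f : Node → ℤ → ℤ} {L₁ L₂ : List Node} {a₁ a₂ : List ℤ} (hl : a₁.length = L₁.length) :
    tot f (L₁ ++ L₂) (a₁ ++ a₂) = tot f L₁ a₁ + tot f L₂ a₂ := by
  induction L₁ generalizing a₁ with
  | nil =>
    rw [List.length_nil, List.length_eq_zero_iff] at hl
    simp [hl, tot]
  | cons n l ih =>
    cases a₁ with
    | nil => simp at hl
    | cons v t => simp only [List.cons_append, tot, ih (by simpa using hl)]; ring

theorem mem_solve0 {L : List Node} {b : ℤ} {a : List ℤ} (h : a ∈ extend L 0 b)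
    (h0 : tot (fun n x => n.w0 * x) L a = 0) : a ∈ solve0 L b := by
  have hlen := length_of_mem_extend h
  unfold solve0
  simp only
  by_cases hsh : shape (L.drop (L.length - 2)) = true
  swap
  · rw [if_neg hsh]
    exact List.mem_filter.2 ⟨h, decide_eq_true h0⟩
  rw [if_pos hsh, List.mem_flatMap]
  set n₀ := L.length - 2
  rcases hL : L.drop n₀ with _ | ⟨u, _ | ⟨w, _ | ⟨z, r⟩⟩⟩ <;> rw [hL] at hsh <;> simp only [shape] at hsh <;>
    try exact absurd hsh Bool.false_ne_true
  simp only [Bool.and_eq_true, beq_iff_eq, Bool.or_eq_true] at hsh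
  obtain ⟨⟨⟨hsame, -⟩, hw⟩, hweq⟩ := hsh
  have hLeq : L = L.take n₀ ++ [u, w] := by rw [← hL, List.take_append_drop]
  have hl1 : (a.take n₀).length = (L.take n₀).length := by simp [hlen]
  have hl2 : (a.drop n₀).length = 2 := by
    have := congrArg List.length hL
    simpa [hlen] using this
  obtain ⟨x, y, hxy⟩ := List.length_eq_two.1 hl2
  have haeq : a = a.take n₀ ++ [x, y] := by rw [← hxy, List.take_append_drop]
  have h' := h
  rw [hLeq, haeq] at h'
  obtain ⟨h1, p', b', h2⟩ := extend_append_left hl1 h'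
  rw [mem_extend_cons, mem_extend_cons] at h2
  obtain ⟨hx, -, -, hy, hyx, -, -⟩ := h2
  have := hyx hsame
  subst this
  have h0' := h0
  rw [hLeq, haeq, tot_append hl1] at h0'
  simp only [tot, add_zero] at h0'
  have hv : -(tot (fun n x => n.w0 * x) (L.take n₀) (a.take n₀) / 2) * u.w0 = y := by
    rcases hw with hw | hw <;> rw [← hweq, hw] at h0' <;> rw [hw] <;> omega
  refine ⟨a.take n₀, h1, ?_⟩
  simp only [List.headD_cons, hv, List.all_cons, List.all_nil, Bool.and_true, Bool.and_eq_true,
    List.contains_eq_mem, decide_eq_true_eq]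
  rw [if_pos ⟨⟨hx, hy⟩, by rw [← haeq]; exact h0⟩, List.mem_singleton]
  exact haeq

/-- Records and values from which the vectors come. -/
structure Fam {α : Type*} (k : Cfg) (dom : Rec → List ℤ) (rec' : α → Rec) (v : α → ℤ) (l : List α) : Prop where
  mem : ∀ a ∈ l, v a ∈ dom (rec' a)
  same : ∀ a ∈ l, ∀ a' ∈ l, (rec' a).1 = (rec' a').1 →
    (isY x11 (rec' a).1 || isY k.2 (rec' a).1 || ((rec' a).2 && (rec' a').2 && isY k.1 (rec' a).1)) = true →
    v a = v a'

variable {α : Type*} {rec' : α → Rec} {v : α → ℤ} {l₀ : List α}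

theorem Fam.mem_extend (F : Fam k dom rec' v l₀) :
    ∀ (l : List α) (p : Option α) (prev b : ℤ), (∀ a ∈ l, a ∈ l₀) → (∀ a, p = some a → a ∈ l₀ ∧ prev = v a) →
      (l.map fun a => v a * v a).sum ≤ b →
      l.map v ∈ extend (nodes k dom (p.map rec') (l.map rec')) prev b
  | [], _, _, _, _, _, _ => by simp [nodes, extend]
  | a :: l, p, prev, b, hl, hp, hb => by
    simp only [List.map_cons, List.sum_cons] at hb
    have hnn : 0 ≤ (l.map fun a => v a * v a).sum :=
      List.sum_nonneg fun x hx => by obtain ⟨c, -, rfl⟩ := List.mem_map.1 hx; exact mul_self_nonneg _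
    simp only [List.map_cons, nodes]
    refine mem_extend_cons.2 ⟨F.mem a (hl a List.mem_cons_self), ?_, by omega,
      F.mem_extend l (some a) (v a) _ (fun c hc => hl c (List.mem_cons_of_mem _ hc))
        (fun c hc => by cases hc; exact ⟨hl a List.mem_cons_self, rfl⟩) (by omega)⟩
    cases p with
    | none => simp [mkNode]
    | some c =>
      obtain ⟨hc, hprev⟩ := hp c rfl
      intro hs
      simp only [mkNode, Option.map_some, Bool.and_eq_true, beq_iff_eq] at hs
      rw [hprev, F.same c hc a (hl a List.mem_cons_self) hs.1 (by rw [hs.1]; simpa [Bool.and_eq_true] using hs.2)]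

theorem tot_map (f : Node → ℤ → ℤ) (g : Rec → ℤ → ℤ) (hf : ∀ p r x, f (mkNode k dom p r) x = g r x) :
    ∀ (l : List α) (p : Option Rec),
      tot f (nodes k dom p (l.map rec')) (l.map v) = (l.map fun a => g (rec' a) (v a)).sum
  | [], _ => rfl
  | a :: l, p => by simp only [List.map_cons, nodes, tot, List.sum_cons, hf, tot_map f g hf l]

theorem quad_map (w : Node → ℤ) (g : Rec → ℤ) (hf : ∀ p r, w (mkNode k dom p r) = g r) (l : List α) (p : Option Rec) :
    quad w (nodes k dom p (l.map rec')) (l.map v) =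
      (l.map fun a => g (rec' a) * v a * v a * ((ord / (rec' a).1 : ℕ) : ℤ)).sum :=
  tot_map _ (fun r x => g r * x * x * ((ord / r.1 : ℕ) : ℤ)) (fun p r x => by rw [hf]; rfl) l p

theorem quad2_map (w : Node → ℤ) (g : Rec → ℤ) (hf : ∀ p r, w (mkNode k dom p r) = g r) (u : α → ℤ) :
    ∀ (l : List α) (p : Option Rec),
      quad2 w (nodes k dom p (l.map rec')) (l.map v) (l.map u) =
        (l.map fun a => g (rec' a) * v a * u a * ((ord / (rec' a).1 : ℕ) : ℤ)).sum
  | [], _ => rfl
  | a :: l, p => by
    have := quad2_map w g hf u l (some (rec' a))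
    simp only [quad2, List.map_cons, nodes, List.zip_cons_cons, List.sum_cons] at this ⊢
    rw [this, hf]
    rfl

theorem sum_map_sq (l : List α) : ((l.map v).map fun x => x * x).sum = (l.map fun a => v a * v a).sum := by
  rw [List.map_map]; rfl

/-- The two parts of a family, with the vectors on them. -/
theorem Fam.parts (F : Fam k dom rec' v l₀) {l₁ l₂ : List α} (hl : l₀ = l₁ ++ l₂)
    (h₁ : ∀ a ∈ l₁, (rec' a).1 % 11 ≠ 0) (h₂ : ∀ a ∈ l₂, (rec' a).1 % 11 = 0) {b : ℤ}
    (hb : (l₀.map fun a => v a * v a).sum ≤ b) (hw : (l₀.map fun a => wt x11 (rec' a).1 * v a).sum = 0) :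
    let L := nodes k dom none (l₀.map rec')
    let n₀ := (L.takeWhile fun n => n.deg % 11 != 0).length
    L.take n₀ = nodes k dom none (l₁.map rec') ∧
      l₁.map v ∈ solve0 (L.take n₀) b ∧
      l₂.map v ∈ extend (L.drop n₀) 0 (b - ((l₁.map v).map fun x => x * x).sum) := by
  intro L n₀
  have hR₁ : ∀ r ∈ l₁.map rec', r.1 % 11 ≠ 0 := fun r hr => by
    obtain ⟨a, ha, rfl⟩ := List.mem_map.1 hr; exact h₁ a ha
  have hR₂ : ∀ r ∈ l₂.map rec', r.1 % 11 = 0 := fun r hr => by
    obtain ⟨a, ha, rfl⟩ := List.mem_map.1 hr; exact h₂ a ha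
  obtain ⟨hsplit, hn⟩ := takeWhile_nodes (k := k) (dom := dom) hR₁ hR₂
  have hL : L = nodes k dom none (l₁.map rec') ++ nodes k dom none (l₂.map rec') := by
    rw [← hsplit, ← List.map_append, ← hl]
  have hn0 : n₀ = (nodes k dom none (l₁.map rec')).length := by
    rw [length_nodes, ← hn, ← List.map_append, ← hl]
  have htake : L.take n₀ = nodes k dom none (l₁.map rec') := by rw [hL, hn0, List.take_left]
  have hdrop : L.drop n₀ = nodes k dom none (l₂.map rec') := by rw [hL, hn0, List.drop_left]
  rw [hl, List.map_append, List.sum_append] at hb hw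
  have hnn : ∀ l : List α, 0 ≤ (l.map fun a => v a * v a).sum := fun l =>
    List.sum_nonneg fun x hx => by obtain ⟨c, -, rfl⟩ := List.mem_map.1 hx; exact mul_self_nonneg _
  refine ⟨htake, htake ▸ mem_solve0 ?_ ?_, hdrop ▸ ?_⟩
  · exact F.mem_extend l₁ none 0 b (fun a ha => hl ▸ List.mem_append_left _ ha) (by simp)
      (by have := hnn l₂; omega)
  · rw [tot_map (fun n x => n.w0 * x) (fun r x => wt x11 r.1 * x) (fun _ _ _ => rfl)]
    refine le_antisymm ?_ ?_ <;>
    · have : (l₂.map fun a => wt x11 (rec' a).1 * v a).sum = 0 := List.sum_eq_zero fun x hx => by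
        obtain ⟨a, ha, rfl⟩ := List.mem_map.1 hx
        have h0 : wt x11 (rec' a).1 = 0 := by
          have := h₂ a ha
          simp [wt, this, x11, ee, ord]
        rw [h0, zero_mul]
      omega
  · rw [sum_map_sq]
    exact F.mem_extend l₂ none 0 _ (fun a ha => hl ▸ List.mem_append_right _ ha) (by simp) (by omega)

end CfsgLib.M22Order
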