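import Cfsg.Agent.M22Id.Order.Block
import Cfsg.Agent.M22Id.Order.Sound
import Cfsg.Agent.M22Id.Order.Tables
import Cfsg.Agent.Char.Burnside
import Mathlib.Algebra.Order.BigOperators.Ring.Finset

/-!
# Columns on the union of the principal blocks
-/

set_option autoImplicit false
set_option linter.style.haveILetI false
set_option linter.unusedSectionVars false
set_option linter.unusedVariables false

namespace CfsgLib.M22Order

open Cfsg Finset CfsgLib.Block CfsgLib.Block.Chr CfsgLib.BrauerPairs CfsgLib.BrauerPrime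
open CfsgLib.Cyclic (deg)
open scoped ComplexConjugate

universe u

variable {G : Type u} [Group G] [Fintype G]

open Classical in
/-- What the searches use about a principal block. -/
structure Block (x : Dat) (P : Subgroup G) (B : Finset (IrrCharacter G)) : Prop where
  triv : trivIrr G ∈ B
  rel : ∀ g : G, ¬ x.1 ∣ orderOf g → ∑ χ ∈ B, (wt x (dg χ) : ℂ) * (χ : G → ℂ) g = 0
  agree : ∀ χ ∈ B, ∀ χ' ∈ B, dg χ = dg χ' → isY x (dg χ) = true → ∀ g : G, ¬ x.1 ∣ orderOf g →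
    (χ : G → ℂ) g = (χ' : G → ℂ) g
  residue : ∀ χ ∈ B, ¬ x.1 ∣ dg χ
  dvd_ord : ∀ χ ∈ B, dg χ ∣ ord
  cong : ∀ u ∈ Subgroup.centralizer (P : Set G), ¬ x.1 ∣ orderOf u → u ^ x.1 = u →
    (∀ ψ ∈ B, ∃ w : ℤ, (ψ : G → ℂ) u = w) → ∀ χ ∈ B, (dg χ % x.1 = 1 ∨ dg χ % x.1 = x.1 - 1) →
      ∀ v : ℤ, (χ : G → ℂ) u = v → (x.1 : ℤ) ∣ v - sgn x.1 (dg χ)
  gen : ss x = 1 → ∀ z ∈ P, z ≠ 1 → ∀ χ ∈ B, (χ : G → ℂ) z = (sgn x.1 (dg χ) : ℂ)
  degs : ∃ xs y, BlockDegs x xs y ∧ (B.toList.map dg).Perm (blockList x xs y)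
  out : x.2.2 = 1 → ∀ χ : IrrCharacter G, ¬ x.1 ∣ dg χ ↔ χ ∈ B
  pairs : x.2.2 = 1 → ∀ a b : G, ¬ x.1 ∣ orderOf a → ¬ x.1 ∣ orderOf b → ∀ va vb : IrrCharacter G → ℤ,
    (∀ χ ∈ B, (χ : G → ℂ) a = va χ) → (∀ χ ∈ B, (χ : G → ℂ) b = vb χ) →
      ∃ N : ℕ, ∑ χ ∈ B, wt x (dg χ) * va χ * vb χ * ((ord / dg χ : ℕ) : ℤ) =
        ((Nat.card (Subgroup.centralizer ({a} : Set G)) * Nat.card (Subgroup.centralizer ({b} : Set G)) * ss x : ℕ) : ℤ) * N ∧
        (a = b → a * a = 1 → ee x % 2 = 1 → N = 0)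

open Classical in
theorem PB.block {x : Dat} [Fact x.1.Prime] {M : Ideal AlgInt} [M.IsPrime] {S : Sylow x.1 G} {n : ℕ}
    {X Y : Finset (IrrCharacter G)} {sg : IrrCharacter G → ℤ} {ε : ℤ} (D : PB x M S n X Y sg ε) :
    Block x (S : Subgroup G) (X ∪ Y) where
  triv := mem_union_left _ D.blk.triv
  rel := fun g hg => D.rel hg
  agree := fun χ hχ χ' hχ' hd hy g hg => D.blk.agree χ (D.memY_of_isY (mem_union.1 hχ) hy) χ'
    (D.memY_of_isY (mem_union.1 hχ') (hd ▸ hy)) g hg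
  residue := fun χ hχ h => D.residue (mem_union.1 hχ) (Nat.mod_eq_zero_of_dvd h)
  dvd_ord := fun χ hχ => D.dvd_ord (mem_union.1 hχ)
  cong := fun u hu hur hup hint χ hχ hr v hv => D.cong hu hur (mem_union.1 hχ) hr hv
    (fun ψ hψ => hint ψ (mem_union_left _ hψ)) hup
  gen := fun hs z hz hz1 χ hχ => D.gen hs hz hz1 (mem_union.1 hχ)
  degs := D.degs
  out := fun hc χ => (D.out hc χ).trans mem_union.symm
  pairs := fun hc a b ha hb va vb hva hvb => D.pairs hc ha hb hva hvb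

theorem exists_block [IsSimpleGroup G] (hG : Nat.card G = ord) {x : Dat} [Fact x.1.Prime] (h3 : 2 < x.1)
    (hx : SylowCheck.Real G x) (S : Sylow x.1 G) : ∃ B, Block x (S : Subgroup G) B := by
  classical
  obtain ⟨M, hM, n, X, Y, sg, ε, D⟩ := exists_pb hG h3 hx S
  exact ⟨_, D.block⟩

theorem count_map_dg (B : Finset (IrrCharacter G)) (v : ℕ) :
    (B.toList.map dg).count v = (B.filter fun χ => dg χ = v).card := by
  classical
  rw [← Multiset.coe_count, ← Multiset.map_coe, coe_toList, Multiset.count_map,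
    ← Finset.filter_val, Finset.card_val]
  exact congrArg Finset.card (Finset.filter_congr fun χ _ => eq_comm)

theorem mem_of_count {L : List ℕ} {B : Finset (IrrCharacter G)}
    (h : ∀ v, L.count v = (B.filter fun χ => dg χ = v).card) {v : ℕ} : v ∈ L ↔ ∃ χ ∈ B, dg χ = v := by
  rw [← List.count_pos_iff, h, card_pos]
  simp [Finset.Nonempty]

theorem Block.exists_lists {x : Dat} {P : Subgroup G} {B : Finset (IrrCharacter G)} (hB : Block x P B)
    {D : List ℕ} (hD : ∀ χ ∈ B, 2 ≤ dg χ → dg χ * dg χ < ord → dg χ ∈ D) :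
    ∃ L ∈ lists x D, ∀ v, L.count v = (B.filter fun χ => dg χ = v).card := by
  obtain ⟨xs, y, hd, hp⟩ := hB.degs
  obtain ⟨L, hL, hLp⟩ := hd.exists_list (D := D) fun v hv => by
    have hmem : v ∈ blockList x xs y := by
      rcases List.mem_cons.1 hv with rfl | h
      · exact List.mem_append_right _ (List.mem_replicate.2 ⟨by have := hd.s1; omega, rfl⟩)
      · exact List.mem_append_left _ (List.mem_cons_of_mem _ h)
    obtain ⟨χ, hχ, rfl⟩ := List.mem_map.1 (hp.mem_iff.2 hmem)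
    refine hD χ (Finset.mem_toList.1 hχ) (hd.two _ hv) ?_
    have := hd.sq
    rcases List.mem_cons.1 hv with h | h
    · rw [h]
      have := Nat.le_mul_of_pos_left (y * y) hd.s1
      omega
    · have := List.le_sum_of_mem (List.mem_map.2 ⟨_, h, rfl⟩ : dg χ * dg χ ∈ xs.map fun v => v * v)
      omega
  exact ⟨L, hL, fun v => by rw [← count_map_dg]; exact (hLp.trans hp.symm).count_eq v⟩

theorem Block.exists_eleven {P : Subgroup G} {B : Finset (IrrCharacter G)} (hB : Block x11 P B) :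
    ∃ L ∈ L11, ∀ v, L.count v = (B.filter fun χ => dg χ = v).card := by
  obtain ⟨L, hL, h⟩ := hB.exists_lists (D := small) fun χ hχ _ h2 => mem_small (hB.dvd_ord χ hχ) h2
  exact ⟨L, L11_eq ▸ hL, h⟩

theorem Block.exists_blks {x : Dat} {P : Subgroup G} {B A : Finset (IrrCharacter G)} (hB : Block x P B)
    {LA : List ℕ} (hA : ∀ v, LA.count v = (A.filter fun χ => dg χ = v).card)
    (outA : ∀ χ : IrrCharacter G, ¬ 11 ∣ dg χ ↔ χ ∈ A) :
    ∃ L ∈ blks x LA, ∀ v, L.count v = (B.filter fun χ => dg χ = v).card := by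
  obtain ⟨L, hL, h⟩ := hB.exists_lists (D := (LA.filter fun v => v != 1).dedup ++ elevens) fun χ hχ h2 hsq => by
    by_cases h11 : 11 ∣ dg χ
    · exact List.mem_append_right _ (elevens_table _ (mem_small (hB.dvd_ord χ hχ) hsq) (Nat.mod_eq_zero_of_dvd h11))
    · refine List.mem_append_left _ (List.mem_dedup.2 (List.mem_filter.2
        ⟨(mem_of_count hA).2 ⟨χ, (outA χ).1 h11, rfl⟩, ?_⟩))
      simp only [bne_iff_ne, ne_eq]
      omega
  refine ⟨L, List.mem_filter.2 ⟨hL, ?_⟩, h⟩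
  simp only [Bool.and_eq_true, List.all_eq_true, Bool.or_eq_true, beq_iff_eq, Nat.ble_eq, bne_iff_ne, ne_eq]
  refine ⟨fun v _ => ?_, ?_⟩
  · by_cases hv : v % 11 = 0
    · exact Or.inl hv
    · refine Or.inr ?_
      rw [h, hA]
      exact card_le_card fun χ hχ => by
        rw [mem_filter] at hχ ⊢
        exact ⟨(outA χ).1 fun hd => hv (hχ.2 ▸ Nat.mod_eq_zero_of_dvd hd), hχ.2⟩
  · by_cases hc : x.2.2 = 1
    · refine Or.inr fun v _ => ?_
      by_cases hv : v % x.1 = 0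
      · exact Or.inl hv
      · refine Or.inr ?_
        rw [h, hA]
        exact card_le_card fun χ hχ => by
          rw [mem_filter] at hχ ⊢
          exact ⟨(hB.out hc χ).1 fun hd => hv (hχ.2 ▸ Nat.mod_eq_zero_of_dvd hd), hχ.2⟩
    · exact Or.inl hc

/-- The blocks and their lists of degrees. -/
structure Tri (LA LB LQ : List ℕ) (q : ℕ) (A Bf Q : Finset (IrrCharacter G)) : Prop where
  outA : ∀ χ : IrrCharacter G, ¬ 11 ∣ dg χ ↔ χ ∈ A
  outQ : ∀ χ : IrrCharacter G, 11 ∣ dg χ → (¬ q ∣ dg χ ↔ χ ∈ Q)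
  cA : ∀ v, LA.count v = (A.filter fun χ => dg χ = v).card
  cB : ∀ v, LB.count v = (Bf.filter fun χ => dg χ = v).card
  cQ : ∀ v, LQ.count v = (Q.filter fun χ => dg χ = v).card

theorem count_flatMap_keys {K : List ℕ} (hK : K.Nodup) {f : ℕ → List Rec} (hf : ∀ v, ∀ r ∈ f v, r.1 = v)
    (r : Rec) : (K.flatMap f).count r = if r.1 ∈ K then (f r.1).count r else 0 := by
  induction K with
  | nil => simp
  | cons a K ih =>
    rw [List.nodup_cons] at hK
    rw [List.flatMap_cons, List.count_append, ih hK.2]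
    by_cases ha : r.1 = a
    · rw [ha, if_neg hK.1, if_pos List.mem_cons_self, add_zero]
    · rw [List.count_eq_zero.2 (fun h => ha (hf a r h)), zero_add]
      by_cases hr : r.1 ∈ K
      · rw [if_pos hr, if_pos (List.mem_cons_of_mem _ hr)]
      · rw [if_neg hr, if_neg fun h => (List.mem_cons.1 h).elim ha hr]

theorem exists_of_map_perm {α β : Type*} [DecidableEq α] (f : α → β) :
    ∀ (R : List β) (l : List α), (l.map f).Perm R → ∃ L : List α, L.Perm l ∧ L.map f = R := by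
  intro R
  induction R with
  | nil => intro l h; exact ⟨l, List.Perm.refl _, h.eq_nil⟩
  | cons r R ih =>
    intro l h
    obtain ⟨a, ha, rfl⟩ := List.mem_map.1 (h.mem_iff.2 List.mem_cons_self)
    obtain ⟨L, hL, hR⟩ := ih (l.erase a)
      (List.perm_cons (f a) |>.1 (((List.perm_cons_erase ha).map f).symm.trans h))
    exact ⟨a :: L, (hL.cons a).trans (List.perm_cons_erase ha).symm, by rw [List.map_cons, hR]⟩

/-- The record of a character. -/
noncomputable def recOf (Bf : Finset (IrrCharacter G)) (χ : IrrCharacter G) : Rec :=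
  haveI := Classical.dec (χ ∈ Bf)
  (dg χ, decide (χ ∈ Bf))

theorem recOf_snd {Bf : Finset (IrrCharacter G)} {χ : IrrCharacter G} : (recOf Bf χ).2 = true ↔ χ ∈ Bf := by
  simp [recOf]

namespace Tri

variable {LA LB LQ : List ℕ} {q : ℕ} {A Bf Q : Finset (IrrCharacter G)} (T : Tri LA LB LQ q A Bf Q)

include T

theorem fits : fits LA LB LQ q = true := by
  simp only [M22Order.fits, Bool.and_eq_true, List.all_eq_true, Bool.or_eq_true, beq_iff_eq, Nat.ble_eq]
  refine ⟨fun v _ => ?_, fun v _ => ?_⟩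
  · unfold num
    by_cases h : v % 11 = 0
    · rw [if_neg (by simp [h])]
      by_cases h' : v % q = 0
      · rw [if_neg (by simp [h'])]
      · rw [if_pos (by simp [h']), T.cB, T.cQ]
        exact card_le_card fun χ hχ => by
          rw [mem_filter] at hχ ⊢
          exact ⟨(T.outQ χ (hχ.2 ▸ Nat.dvd_of_mod_eq_zero h)).1
            fun hd => h' (hχ.2 ▸ Nat.mod_eq_zero_of_dvd hd), hχ.2⟩
    · rw [if_pos (by simp [h]), T.cB, T.cA]
      exact card_le_card fun χ hχ => by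
        rw [mem_filter] at hχ ⊢
        exact ⟨(T.outA χ).1 fun hd => h (hχ.2 ▸ Nat.mod_eq_zero_of_dvd hd), hχ.2⟩
  · by_cases h : v % 11 = 0
    · exact Or.inl h
    · refine Or.inr ?_
      rw [T.cQ, T.cA]
      exact card_le_card fun χ hχ => by
        rw [mem_filter] at hχ ⊢
        exact ⟨(T.outA χ).1 fun hd => h (hχ.2 ▸ Nat.mod_eq_zero_of_dvd hd), hχ.2⟩

theorem covers (hQ : ∀ χ : IrrCharacter G, ¬ q ∣ dg χ ↔ χ ∈ Q) : covers LA LB LQ q = true := by
  simp only [M22Order.covers, List.all_eq_true, Bool.or_eq_true, beq_iff_eq, Bool.and_eq_true, Nat.ble_eq]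
  intro v _
  by_cases h : v % q = 0
  · exact Or.inl h
  · refine Or.inr ⟨?_, ?_⟩
    · rw [T.cA, T.cQ]
      exact card_le_card fun χ hχ => by
        rw [mem_filter] at hχ ⊢
        exact ⟨(hQ χ).1 fun hd => h (hχ.2 ▸ Nat.mod_eq_zero_of_dvd hd), hχ.2⟩
    · rw [T.cB, T.cQ]
      exact card_le_card fun χ hχ => by
        rw [mem_filter] at hχ ⊢
        exact ⟨(hQ χ).1 fun hd => h (hχ.2 ▸ Nat.mod_eq_zero_of_dvd hd), hχ.2⟩

/-- The union of the blocks, enumerated as in the records. -/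
theorem exists_enum : ∃ l₁ l₂ : List (IrrCharacter G), (l₁ ++ l₂).Nodup ∧
    (∀ χ, χ ∈ l₁ ++ l₂ ↔ χ ∈ A ∨ χ ∈ Bf ∨ χ ∈ Q) ∧
    (l₁ ++ l₂).map (recOf Bf) = recs LA LB LQ q ∧
    (∀ χ ∈ l₁, dg χ % 11 ≠ 0) ∧ ∀ χ ∈ l₂, dg χ % 11 = 0 := by
  classical
  set K₁ := LA.reverse.dedup.reverse with hK₁
  set K₂ := ((LQ ++ LB).filter fun v => v % 11 == 0).dedup with hK₂
  have hA11 : ∀ v ∈ LA, v % 11 ≠ 0 := fun v hv h => by
    obtain ⟨χ, hχ, rfl⟩ := (mem_of_count T.cA).1 hv
    exact (T.outA χ).2 hχ (Nat.dvd_of_mod_eq_zero h)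
  have hK₁m : ∀ v, v ∈ K₁ ↔ v ∈ LA := fun v => by simp [hK₁]
  have hK₂m : ∀ v, v ∈ K₂ ↔ (v ∈ LQ ∨ v ∈ LB) ∧ v % 11 = 0 := fun v => by simp [hK₂, or_and_right]
  have hnd : (K₁ ++ K₂).Nodup := by
    refine List.nodup_append.2 ⟨List.nodup_reverse.2 (List.nodup_dedup _), List.nodup_dedup _, ?_⟩
    intro a ha b hb hab
    exact hA11 a ((hK₁m a).1 ha) (hab ▸ ((hK₂m b).1 hb).2)
  set f : ℕ → List Rec := fun v => List.replicate (LB.count v) (v, true) ++
    List.replicate (num LA LB LQ q v - LB.count v) (v, false) with hf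
  have hfst : ∀ v, ∀ r ∈ f v, r.1 = v := fun v r hr => by
    simp only [hf, List.mem_append, List.mem_replicate] at hr
    rcases hr with ⟨-, rfl⟩ | ⟨-, rfl⟩ <;> rfl
  set U := A ∪ Bf ∪ Q with hU
  have hnum : ∀ v, (U.filter fun χ => dg χ = v).card = num LA LB LQ q v := by
    intro v
    unfold num
    by_cases h : v % 11 = 0
    · rw [if_neg (by simp [h])]
      by_cases h' : v % q = 0
      · rw [if_neg (by simp [h']), T.cB]
        congr 1
        ext χ
        simp only [hU, mem_filter, Finset.mem_union]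
        refine ⟨fun hχ => ⟨?_, hχ.2⟩, fun hχ => ⟨Or.inl (Or.inr hχ.1), hχ.2⟩⟩
        obtain ⟨hχ, rfl⟩ := hχ
        rcases hχ with (h1 | h1) | h1
        · exact absurd (Nat.dvd_of_mod_eq_zero h) ((T.outA χ).2 h1)
        · exact h1
        · exact absurd (Nat.dvd_of_mod_eq_zero h') ((T.outQ χ (Nat.dvd_of_mod_eq_zero h)).2 h1)
      · rw [if_pos (by simp [h']), T.cQ]
        congr 1
        ext χ
        simp only [hU, mem_filter, Finset.mem_union]
        exact ⟨fun hχ => ⟨(T.outQ χ (hχ.2 ▸ Nat.dvd_of_mod_eq_zero h)).1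
          fun hd => h' (hχ.2 ▸ Nat.mod_eq_zero_of_dvd hd), hχ.2⟩, fun hχ => ⟨Or.inr hχ.1, hχ.2⟩⟩
    · rw [if_pos (by simp [h]), T.cA]
      congr 1
      ext χ
      simp only [hU, mem_filter, Finset.mem_union]
      exact ⟨fun hχ => ⟨(T.outA χ).1 fun hd => h (hχ.2 ▸ Nat.mod_eq_zero_of_dvd hd), hχ.2⟩,
        fun hχ => ⟨Or.inl (Or.inl hχ.1), hχ.2⟩⟩
  have hperm : (U.toList.map (recOf Bf)).Perm (recs LA LB LQ q) := by
    refine List.perm_iff_count.2 fun r => ?_
    have hrecs : recs LA LB LQ q = (K₁ ++ K₂).flatMap f := rfl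
    have key : ∀ l : List Rec, l.count r = Multiset.count r (l : Multiset Rec) := fun l => by
      induction l with
      | nil => simp
      | cons a l ih =>
        rw [List.count_cons, ih, ← Multiset.cons_coe, Multiset.count_cons]
        by_cases h : a = r
        · subst h; simp
        · simp [h, Ne.symm h]
    rw [hrecs, count_flatMap_keys hnd hfst r, key, ← Multiset.map_coe, coe_toList,
      Multiset.count_map, ← Finset.filter_val, Finset.card_val]
    obtain ⟨v, b⟩ := r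
    have hset : (U.filter fun χ => (v, b) = recOf Bf χ) = U.filter fun χ => dg χ = v ∧ (χ ∈ Bf ↔ b = true) := by
      refine Finset.filter_congr fun χ _ => ?_
      constructor
      · intro h
        have h1 : v = dg χ := congrArg Prod.fst h
        have h2 : b = (recOf Bf χ).2 := congrArg Prod.snd h
        exact ⟨h1.symm, by rw [h2, recOf_snd]⟩
      · rintro ⟨h1, h2⟩
        refine Prod.ext h1.symm ?_
        show b = (recOf Bf χ).2
        by_cases hχ : χ ∈ Bf
        · rw [h2.1 hχ, recOf_snd.2 hχ]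
        · rw [Bool.eq_false_iff.2 fun e => hχ (h2.2 e), Bool.eq_false_iff.2 fun e => hχ (recOf_snd.1 e)]
    have htrue : (U.filter fun χ => dg χ = v ∧ (χ ∈ Bf ↔ true = true)).card = LB.count v := by
      rw [T.cB]
      congr 1
      ext χ
      simp only [hU, mem_filter, Finset.mem_union, iff_true]
      exact ⟨fun h => ⟨h.2.2, h.2.1⟩, fun h => ⟨Or.inl (Or.inr h.1), h.2, h.1⟩⟩
    have hfalse : (U.filter fun χ => dg χ = v ∧ (χ ∈ Bf ↔ false = true)).card = num LA LB LQ q v - LB.count v := by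
      have h1 := Finset.card_filter_add_card_filter_not (s := U.filter fun χ => dg χ = v) (fun χ => χ ∈ Bf)
      rw [Finset.filter_filter, Finset.filter_filter, hnum] at h1
      rw [← htrue]
      simp only [Bool.false_eq_true, iff_false, iff_true]
      omega
    rw [hset]
    by_cases hv : v ∈ K₁ ++ K₂
    · rw [if_pos hv]
      cases b
      · rw [hfalse]
        simp [hf, List.count_append, List.count_replicate]
      · rw [htrue]
        simp [hf, List.count_append, List.count_replicate]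
    · rw [if_neg hv]
      refine card_eq_zero.2 (filter_eq_empty_iff.2 fun χ hχ hc => hv ?_)
      obtain ⟨rfl, -⟩ := hc
      rw [List.mem_append, hK₁m, hK₂m]
      by_cases h : dg χ % 11 = 0
      · refine Or.inr ⟨?_, h⟩
        simp only [hU, Finset.mem_union] at hχ
        rcases hχ with (h1 | h1) | h1
        · exact absurd (Nat.dvd_of_mod_eq_zero h) ((T.outA χ).2 h1)
        · exact Or.inr ((mem_of_count T.cB).2 ⟨χ, h1, rfl⟩)
        · exact Or.inl ((mem_of_count T.cQ).2 ⟨χ, h1, rfl⟩)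
      · exact Or.inl ((mem_of_count T.cA).2 ⟨χ, (T.outA χ).1 fun hd => h (Nat.mod_eq_zero_of_dvd hd), rfl⟩)
  obtain ⟨L, hL, hmap⟩ := exists_of_map_perm (recOf Bf) _ _ hperm
  have hmap' : L.map (recOf Bf) = K₁.flatMap f ++ K₂.flatMap f := by
    rw [hmap, ← List.flatMap_append]
    rfl
  obtain ⟨l₁, l₂, rfl, h₁, h₂⟩ := List.map_eq_append_iff.1 hmap'
  refine ⟨l₁, l₂, hL.nodup_iff.2 (Finset.nodup_toList _), fun χ => ?_, hmap, fun χ hχ => ?_, fun χ hχ => ?_⟩
  · rw [hL.mem_iff, Finset.mem_toList, hU, Finset.mem_union, Finset.mem_union, or_assoc]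
  · obtain ⟨v, hv, hr⟩ := List.mem_flatMap.1 (h₁ ▸ List.mem_map_of_mem (f := recOf Bf) hχ)
    have := hfst v _ hr
    rw [show (recOf Bf χ).1 = dg χ from rfl] at this
    exact this ▸ hA11 v ((hK₁m v).1 hv)
  · obtain ⟨v, hv, hr⟩ := List.mem_flatMap.1 (h₂ ▸ List.mem_map_of_mem (f := recOf Bf) hχ)
    have := hfst v _ hr
    rw [show (recOf Bf χ).1 = dg χ from rfl] at this
    exact this ▸ ((hK₂m v).1 hv).2

end Tri

/-- A list without repetitions gives the sum over its members. -/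
theorem sum_list_eq {l : List (IrrCharacter G)} (hl : l.Nodup) {B : Finset (IrrCharacter G)}
    (hB : ∀ χ ∈ B, χ ∈ l) {A : Type*} [AddCommMonoid A] (f : IrrCharacter G → A)
    (h0 : ∀ χ ∈ l, χ ∉ B → f χ = 0) : (l.map f).sum = ∑ χ ∈ B, f χ := by
  classical
  rw [← List.sum_toFinset f hl, ← sum_subset (fun χ hχ => List.mem_toFinset.2 (hB χ hχ))
    fun χ hχ h => h0 χ (List.mem_toFinset.1 hχ) h]

theorem wt_zero {x : Dat} {v : ℕ} (he : 0 < ee x) (he' : ee x < x.1) (h : x.1 ∣ v) : wt x v = 0 := by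
  have hv := Nat.mod_eq_zero_of_dvd h
  simp [wt, hv, he.ne, show (0 : ℕ) ≠ x.1 - 1 by omega, show (0 : ℕ) ≠ x.1 - ee x by omega]

theorem dg_one (χ : IrrCharacter G) : (χ : G → ℂ) 1 = (dg χ : ℂ) := (irr_one χ).1

theorem eq_one_of_dg [IsSimpleGroup G] (hG : Nat.card G = ord) {χ : IrrCharacter G} (h : dg χ = 1) (g : G) :
    (χ : G → ℂ) g = 1 := by
  haveI : IsSimpleGroup G := inferInstance
  have hperf : commutator G = ⊤ := by
    refine (Subgroup.Normal.eq_bot_or_eq_top (inferInstance : (commutator G).Normal)).resolve_left fun h => ?_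
    rw [commutator_def, Subgroup.commutator_eq_bot_iff_le_centralizer] at h
    exact not_comm hG ⟨⟨fun a b => (Subgroup.mem_centralizer_iff.1 (h (Subgroup.mem_top b)) a
        (Subgroup.mem_top a))⟩⟩
  have := CfsgLib.PClosedBound.eq_one_of_apply_one hperf χ.2 (by rw [dg_one, h, Nat.cast_one])
  rw [this]

theorem norm_lt [IsSimpleGroup G] (hG : Nat.card G = ord) {χ : IrrCharacter G} (h : dg χ ≠ 1) {g : G} (hg : g ≠ 1) :
    ‖(χ : G → ℂ) g‖ < (dg χ : ℝ) := by
  have hle : ‖(χ : G → ℂ) g‖ ≤ (dg χ : ℝ) := by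
    have := CfsgLib.Char.IsCharacter.norm_apply_le (isCharacter_irr χ) g
    rw [dg_one, Complex.natCast_re] at this
    exact this
  refine lt_of_le_of_ne hle fun he => ?_
  obtain ⟨m, ρ, hρ, hρχ⟩ := χ.2
  have hm : dg χ = m := by
    have h1 := dg_one χ
    rw [← congrFun hρχ 1, Representation.char_one, Module.finrank_fin_fun] at h1
    exact_mod_cast h1.symm
  have hn : ‖ρ.character g‖ = (Module.finrank ℂ (Fin m → ℂ) : ℝ) := by
    rw [hρχ, he, hm, Module.finrank_fin_fun]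
  have h1 := congrFun (CfsgLib.Char.eq_one_of_norm_eq_of_simple (fun hc => not_comm hG ⟨⟨hc⟩⟩) ρ hg hn) 1
  rw [Representation.char_one, Module.finrank_fin_fun] at h1
  exact h (by rw [hm]; exact_mod_cast h1)

theorem step_dvd {C d : ℕ} (hd : 0 < d) {v : ℤ} (h : (d : ℤ) ∣ ((ord / C : ℕ) : ℤ) * v) : (step C d : ℤ) ∣ v := by
  set h' := ord / C
  have hpos : 0 < Nat.gcd h' d := Nat.gcd_pos_of_pos_right _ hd
  have h1 : d ∣ h' * v.natAbs := by
    have := Int.natAbs_dvd_natAbs.2 h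
    rwa [Int.natAbs_natCast, Int.natAbs_mul, Int.natAbs_natCast] at this
  obtain ⟨a, ha⟩ := Nat.gcd_dvd_left h' d
  obtain ⟨b, hb⟩ := Nat.gcd_dvd_right h' d
  have hcop := Nat.coprime_div_gcd_div_gcd (m := h') (n := d) hpos
  have hs : step C d = b := by
    show d / Nat.gcd h' d = b
    exact Nat.div_eq_of_eq_mul_right hpos hb
  rw [Nat.div_eq_of_eq_mul_right hpos ha, Nat.div_eq_of_eq_mul_right hpos hb] at hcop
  refine Int.ofNat_dvd_left.2 (hs ▸ hcop.symm.dvd_of_dvd_mul_left ?_)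
  have h2 : Nat.gcd h' d * b ∣ Nat.gcd h' d * (a * v.natAbs) := by rw [← hb, ← mul_assoc, ← ha]; exact h1
  exact Nat.dvd_of_mul_dvd_mul_left hpos h2

theorem mem_multiples {g b : ℕ} (hg : 0 < g) {v : ℤ} (hv : (g : ℤ) ∣ v) (hb : v.natAbs ≤ b) :
    v ∈ multiples g b := by
  obtain ⟨t, rfl⟩ := hv
  have ht : t.natAbs ≤ b / g := by
    rw [Nat.le_div_iff_mul_le hg]
    rwa [Int.natAbs_mul, Int.natAbs_natCast, mul_comm] at hb
  refine List.mem_map.2 ⟨(t + ((b / g : ℕ) : ℤ)).toNat, List.mem_range.2 (by omega), ?_⟩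
  rw [Int.toNat_of_nonneg (by omega)]
  ring

theorem step_pos {C d : ℕ} (hd : 0 < d) : 0 < step C d :=
  Nat.div_pos (Nat.le_of_dvd hd (Nat.gcd_dvd_right _ _)) (Nat.gcd_pos_of_pos_right _ hd)

/-- The class sum gives integrality. -/
theorem class_dvd (hG : Nat.card G = ord) (χ : IrrCharacter G) {g : G} {v : ℤ} (hv : (χ : G → ℂ) g = v) :
    (dg χ : ℤ) ∣ ((ord / Nat.card (Subgroup.centralizer ({g} : Set G)) : ℕ) : ℤ) * v := by
  have h1 := CfsgLib.Char.IsIrrCharacter.isIntegral_class_mul_div χ.2 g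
  have hidx : (Subgroup.centralizer ({g} : Set G)).index = ord / Nat.card (Subgroup.centralizer ({g} : Set G)) := by
    rw [← hG, ← Subgroup.index_mul_card (Subgroup.centralizer ({g} : Set G)), Nat.mul_div_cancel _ Nat.card_pos]
  rw [hidx, hv, dg_one] at h1
  have hd : 0 < dg χ := (irr_one χ).2
  set h := ord / Nat.card (Subgroup.centralizer ({g} : Set G))
  obtain ⟨w, hw⟩ := exists_int_of_isIntegral_ratCast (q := ((h : ℚ) * (v : ℚ) / (dg χ : ℚ))) (by push_cast; exact h1)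
  have hd' : (dg χ : ℚ) ≠ 0 := Nat.cast_ne_zero.2 hd.ne'
  refine ⟨w, ?_⟩
  have h2 : (h : ℚ) * (v : ℚ) = (w : ℚ) * (dg χ : ℚ) := (div_eq_iff hd').1 (by exact_mod_cast hw)
  have h3 : (h : ℤ) * v = w * (dg χ : ℤ) := by exact_mod_cast h2
  rw [h3, mul_comm]

theorem le_min_sqrt {C : ℕ} {v : ℤ} {d : ℕ} (h1 : v.natAbs ≤ d) (h2 : v * v ≤ (C : ℤ)) :
    v.natAbs ≤ min d (Nat.sqrt C) := by
  refine le_min h1 (Nat.le_sqrt.2 ?_)
  rw [← Int.natAbs_mul_self'] at h2
  exact_mod_cast h2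

end CfsgLib.M22Order
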