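import Cfsg.Agent.M22Id.Order.Stages
import Cfsg.Agent.M22Id.Order.CheckC
import Cfsg.Agent.M22Id.Nse
import Cfsg.Agent.Char.GaloisTwist

/-!
# The columns at elements of orders two and three, and the counts

With all three Sylow subgroups self-centralising the union of the principal blocks misses one character,
of degree 385.  All involutions have the same column and all elements of 3-power order have columns that are
never orthogonal, so each kind is a single class.
-/

set_option autoImplicit false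
set_option linter.style.haveILetI false
set_option linter.unusedSectionVars false

namespace CfsgLib.M22Order

open Cfsg Finset CfsgLib.Block CfsgLib.Block.Chr CfsgLib.BrauerPairs CfsgLib.BrauerPrime
open scoped ComplexConjugate

universe u

theorem map_zipWith {α : Type*} (l : List α) (w v : α → ℤ) :
    (l.map fun a => w a * v a).sum = (List.zipWith (· * ·) (l.map w) (l.map v)).sum := by
  induction l with
  | nil => rfl
  | cons a l ih => simp [ih]

theorem eq_of_count_le_one {α β : Type*} [DecidableEq β] {f : α → β} :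
    ∀ {l : List α}, l.Nodup → ∀ {a a' : α}, a ∈ l → a' ∈ l → f a = f a' → (l.map f).count (f a) ≤ 1 → a = a' := by
  intro l
  induction l with
  | nil => intro _ a a' h; simp at h
  | cons c l ih =>
    intro hnd a a' ha ha' hf hc
    rw [List.nodup_cons] at hnd
    rw [List.map_cons, List.count_cons] at hc
    rcases List.mem_cons.1 ha with rfl | ha1 <;> rcases List.mem_cons.1 ha' with rfl | ha2
    · rfl
    · exfalso
      have : 0 < (l.map f).count (f a) := List.count_pos_iff.2 (hf ▸ List.mem_map_of_mem ha2)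
      simp at hc
      omega
    · exfalso
      have : 0 < (l.map f).count (f a) := List.count_pos_iff.2 (List.mem_map_of_mem ha1)
      simp [hf] at hc
      rw [← hf] at hc
      omega
    · exact ih hnd.2 ha1 ha2 hf (by omega)

variable {G : Type u} [Group G] [Fintype G] [IsSimpleGroup G]

/-- The union of the three blocks and the character outside it. -/
structure Pinned (A B Q : Finset (IrrCharacter G)) (PB : Subgroup G) (l₁ l₂ : List (IrrCharacter G))
    (χ₀ : IrrCharacter G) : Prop where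
  frame : Frame (x5u, x7u) 385 A B Q PB R0 l₁ l₂
  blkB : Block x5u PB B
  outQ : ∀ χ : IrrCharacter G, ¬ 7 ∣ dg χ ↔ χ ∈ Q
  blkQ : ∃ P, Block x7u P Q
  deg : dg χ₀ = 385
  cover : ∀ χ, χ ∈ l₁ ++ l₂ ∨ χ = χ₀
  notMem : χ₀ ∉ l₁ ++ l₂
  invol : ∀ g : G, orderOf g = 2 → Nat.card (cz g) = 384 ∧ (l₁ ++ l₂).map (ival g) = Z0

theorem not_dvd_two_cz {x : Dat} (hx : SylowCheck.Real G x) (hc : x.2.2 = 1) (h2 : 2 < x.1) {g : G}
    (hg : orderOf g = 2) : Nat.card (cz g) % x.1 ≠ 0 := fun h =>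
  not_dvd_cz hx hc (ne_one_of_order hg (by norm_num)) (regular_of_two hg h2) (Nat.dvd_of_mod_eq_zero h)

set_option maxHeartbeats 800000 in
theorem exists_pinned (hG : Nat.card G = ord) :
    ∃ A B Q PB l₁ l₂, ∃ χ₀ : IrrCharacter G, Pinned A B Q PB l₁ l₂ χ₀ := by
  classical
  obtain ⟨hr11, hr7, hr5⟩ := data hG
  haveI : Fact x11.1.Prime := ⟨hr11.1⟩
  haveI : Fact x7u.1.Prime := ⟨hr7.1⟩
  haveI : Fact x5u.1.Prime := ⟨hr5.1⟩
  obtain ⟨S11⟩ : Nonempty (Sylow x11.1 G) := inferInstance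
  obtain ⟨S7⟩ : Nonempty (Sylow x7u.1 G) := inferInstance
  obtain ⟨S5⟩ : Nonempty (Sylow x5u.1 G) := inferInstance
  obtain ⟨A, hA⟩ := exists_block hG (by norm_num [x11]) hr11 S11
  obtain ⟨Q, hQ⟩ := exists_block hG (by norm_num [x7u]) hr7 S7
  obtain ⟨B, hB⟩ := exists_block hG (by norm_num [x5u]) hr5 S5
  obtain ⟨LA, hLA, hcA⟩ := hA.exists_eleven
  obtain ⟨LB, hLB, hcB⟩ := hB.exists_blks hcA (hA.out rfl)
  obtain ⟨LQ, hLQ, hcQ⟩ := hQ.exists_blks hcA (hA.out rfl)
  have T : Tri LA LB LQ 7 A B Q := ⟨hA.out rfl, fun χ _ => hQ.out rfl χ, hcA, hcB, hcQ⟩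
  have T' : Tri LA LQ LB 5 A Q B := ⟨hA.out rfl, fun χ _ => hB.out rfl χ, hcA, hcQ, hcB⟩
  have hm : ∀ χ : IrrCharacter G, χ ∉ A → χ ∉ B → χ ∉ Q → 385 ∣ dg χ := fun χ ha hb hq =>
    Nat.Coprime.mul_dvd_of_dvd_of_dvd (by norm_num : Nat.Coprime 35 11)
      (Nat.Coprime.mul_dvd_of_dvd_of_dvd (by norm_num : Nat.Coprime 5 7)
        (not_not.1 fun e => hb ((hB.out rfl χ).1 e)) (not_not.1 fun e => hq ((hQ.out rfl χ).1 e)))
      (not_not.1 fun e => ha ((hA.out rfl χ).1 e))
  obtain ⟨l₁, l₂, F⟩ := T.frame (k := (x5u, x7u)) (m := 385) (PB := (S5 : Subgroup G)) ⟨_, hA⟩ (Or.inr hB)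
    (Or.inr ⟨rfl, by rw [x5u_facts.2.2.1]; norm_num, by rw [x5u_facts.2.2.1]; norm_num [x7u], _, hQ⟩) hm
  have hst := stageC_eq
  simp only [stageC, List.all_eq_true, Bool.or_eq_true, Bool.not_eq_true'] at hst
  have h1 := hst LA hLA LQ hLQ LB hLB
  rw [T.fits, T.covers (hQ.out rfl), T'.covers (hB.out rfl), F.restOK hG] at h1
  simp only [Bool.true_eq_false, false_or, Bool.and_eq_true, beq_iff_eq] at h1
  have hinv : ∀ g : G, orderOf g = 2 → (recs LA LB LQ 7 = R0 ∧ Nat.card (cz g) = 384) ∧ (l₁ ++ l₂).map (ival g) = Z0 := by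
    intro g hg
    refine h1 _ (evens_eq _ (mem_divs (hG ▸ Subgroup.card_subgroup_dvd_card _)) ?_
      (not_dvd_two_cz hr5 rfl (by norm_num [x5u]) hg) (not_dvd_two_cz hr7 rfl (by norm_num [x7u]) hg)
      (eleven_cz hr11 hg)) _ ?_
    · refine Nat.mod_eq_zero_of_dvd ?_
      rw [← hg]
      exact Subgroup.orderOf_dvd_natCard _ (mem_cz.2 rfl)
    · exact F.mem_invCols hG (by norm_num) (by norm_num [x7u]) (by norm_num [x5u]) hg .both false
        (fun h => by simp at h)
        (fun _ => ⟨hB, rfl, by rw [x5u_facts.2.2.1]; norm_num, by rw [x5u_facts.2.2.1]; norm_num [x7u], _, hQ⟩)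
        (fun _ => by rw [x5u_facts.2.2.1]) (fun _ => rfl)
  haveI : Fact (Nat.Prime 2) := ⟨Nat.prime_two⟩
  obtain ⟨t, ht⟩ := exists_prime_orderOf_dvd_card' (G := G) 2 (by rw [hG]; norm_num [ord])
  have hR : recs LA LB LQ 7 = R0 := (hinv t ht).1.1
  rw [hR] at F
  letI := irrFintype (G := G)
  have hrest := F.rest_eq hG
  rw [show rest R0 = 148225 by decide +kernel] at hrest
  have hrest' : ∑ χ ∈ univ \ (l₁ ++ l₂).toFinset, dg χ * dg χ = 148225 := by exact_mod_cast hrest.symm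
  set O := univ \ (l₁ ++ l₂).toFinset
  have hbig : ∀ χ ∈ O, 148225 ≤ dg χ * dg χ := fun χ hχ => by
    have h385 := F.restm χ fun h => (mem_sdiff.1 hχ).2 (List.mem_toFinset.2 h)
    have := Nat.le_of_dvd (irr_one χ).2 h385
    exact le_trans (by norm_num) (Nat.mul_le_mul this this)
  have hcard : O.card = 1 := by
    have h2 : O.card * 148225 ≤ ∑ χ ∈ O, dg χ * dg χ := by
      rw [← smul_eq_mul]; exact card_nsmul_le_sum _ _ _ hbig
    rcases Nat.eq_zero_or_pos O.card with h0 | h0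
    · rw [card_eq_zero] at h0
      rw [h0, sum_empty] at hrest'
      omega
    · omega
  obtain ⟨χ₀, hχ₀⟩ := card_eq_one.1 hcard
  rw [hχ₀, sum_singleton] at hrest'
  have hdeg : dg χ₀ = 385 := by
    rcases lt_trichotomy (dg χ₀) 385 with h | h | h
    · have := Nat.mul_self_lt_mul_self h; omega
    · exact h
    · have := Nat.mul_self_lt_mul_self h; omega
  have hχ₀O : χ₀ ∈ O := hχ₀ ▸ mem_singleton_self χ₀
  refine ⟨A, B, Q, (S5 : Subgroup G), l₁, l₂, χ₀, F, hB, hQ.out rfl, ⟨_, hQ⟩, hdeg, fun χ => ?_,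
    fun h => (mem_sdiff.1 hχ₀O).2 (List.mem_toFinset.2 h), fun g hg => ⟨(hinv g hg).1.2, (hinv g hg).2⟩⟩
  by_cases h : χ ∈ l₁ ++ l₂
  · exact Or.inl h
  · refine Or.inr ?_
    have : χ ∈ O := mem_sdiff.2 ⟨mem_univ _, fun h' => h (List.mem_toFinset.1 h')⟩
    rwa [hχ₀, mem_singleton] at this

namespace Pinned

variable {A B Q : Finset (IrrCharacter G)} {PB : Subgroup G} {l₁ l₂ : List (IrrCharacter G)} {χ₀ : IrrCharacter G}
  (W : Pinned A B Q PB l₁ l₂ χ₀)

include W

theorem map_dg : (l₁ ++ l₂).map dg = R0.map Prod.fst := by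
  rw [← W.frame.map, List.map_map]
  rfl

theorem map_recs (w : Rec → ℤ) : ((l₁ ++ l₂).map fun χ => w (recOf B χ)) = R0.map w := by
  rw [← W.frame.map, List.map_map]
  rfl

/-- Characters of equal degree agree away from the primes from five on. -/
theorem agree {g : G} (h11 : ¬ 11 ∣ orderOf g) (h7 : ¬ 7 ∣ orderOf g) (χ χ' : IrrCharacter G)
    (h : dg χ = dg χ') : (χ : G → ℂ) g = (χ' : G → ℂ) g := by
  classical
  have hd : ∀ {ψ : IrrCharacter G}, ψ ∈ l₁ ++ l₂ → dg ψ ∈ R0.map Prod.fst := fun hψ =>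
    W.map_dg ▸ List.mem_map_of_mem hψ
  have hno : ∀ {ψ : IrrCharacter G}, ψ ∈ l₁ ++ l₂ → dg ψ ≠ 385 := fun hψ e => by
    have := hd hψ
    rw [e] at this
    exact absurd this (by decide +kernel)
  rcases W.cover χ with hχ | rfl <;> rcases W.cover χ' with hχ' | e'
  · have key : ∀ d ∈ R0.map Prod.fst, d = 45 ∨ d = 280 ∨ (R0.map Prod.fst).count d ≤ 1 := by decide +kernel
    rcases key _ (hd hχ) with e | e | e
    · obtain ⟨P, hQ⟩ := W.blkQ
      refine hQ.agree χ ((W.outQ χ).1 (by rw [e]; norm_num)) χ' ((W.outQ χ').1 (by rw [← h, e]; norm_num)) h ?_ g h7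
      rw [e]; decide +kernel
    · obtain ⟨P, hA⟩ := W.frame.blkA
      refine hA.agree χ ((W.frame.outA χ).1 (by rw [e]; norm_num)) χ' ((W.frame.outA χ').1 (by rw [← h, e]; norm_num)) h ?_ g h11
      rw [e]; decide +kernel
    · rw [← W.map_dg] at e
      rw [eq_of_count_le_one W.frame.nd hχ hχ' h e]
  · subst e'
    exact absurd (h.trans W.deg) (hno hχ)
  · exact absurd (h.symm.trans W.deg) (hno hχ')
  · rw [e']

theorem exists_int {g : G} (h11 : ¬ 11 ∣ orderOf g) (h7 : ¬ 7 ∣ orderOf g) (χ : IrrCharacter G) :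
    ∃ j : ℤ, (χ : G → ℂ) g = (j : ℂ) := by
  refine CfsgLib.Char.exists_int_of_fixed (CfsgLib.Char.IsCharacter.isIntegral (isCharacter_irr χ) g) fun σ => ?_
  let χ' : IrrCharacter G := ⟨_, CfsgLib.Char.IsIrrCharacter.map_ringEquiv χ.2 σ⟩
  have hdeg : dg χ' = dg χ := by
    have h1 := dg_one χ'
    rw [show (χ' : G → ℂ) 1 = σ ((χ : G → ℂ) 1) from rfl, dg_one χ, map_natCast] at h1
    exact_mod_cast h1.symm
  exact W.agree h11 h7 χ' χ hdeg

theorem lin385 (hG : Nat.card G = ord) {g : G} (hg : g ≠ 1) {v : IrrCharacter G → ℤ}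
    (hv : ∀ χ : IrrCharacter G, (χ : G → ℂ) g = v χ) :
    385 * v χ₀ = -((l₁ ++ l₂).map fun χ => (dg χ : ℤ) * v χ).sum := by
  classical
  letI := irrFintype (G := G)
  have h := (W.frame.column_facts hG hg fun χ _ => hv χ).1
  rw [show univ \ (l₁ ++ l₂).toFinset = {χ₀} by
    ext χ
    simp only [mem_sdiff, mem_univ, true_and, List.mem_toFinset, mem_singleton]
    exact ⟨fun hn => (W.cover χ).resolve_left hn, fun e hn => W.notMem (e ▸ hn)⟩,
    sum_singleton, hv χ₀, W.deg] at h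
  exact_mod_cast h

/-- Column orthogonality. -/
theorem inner (g g' : G) [Decidable (IsConj g g')] {v v' : IrrCharacter G → ℤ} (hv : ∀ χ : IrrCharacter G, (χ : G → ℂ) g = v χ)
    (hv' : ∀ χ : IrrCharacter G, (χ : G → ℂ) g' = v' χ) :
    ((l₁ ++ l₂).map fun χ => v χ * v' χ).sum + v χ₀ * v' χ₀ = if IsConj g g' then (Nat.card (cz g) : ℤ) else 0 := by
  classical
  letI := irrFintype (G := G)
  have h := column_orth (G := G) g g'
  rw [sum_congr rfl fun (χ : IrrCharacter G) _ => show (χ : G → ℂ) g * conj ((χ : G → ℂ) g') =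
    ((v χ * v' χ : ℤ) : ℂ) by rw [hv, hv', map_intCast]; push_cast; rfl, ← Int.cast_sum, W.frame.sum_split,
    show univ \ (l₁ ++ l₂).toFinset = {χ₀} by
      ext χ
      simp only [mem_sdiff, mem_univ, true_and, List.mem_toFinset, mem_singleton]
      exact ⟨fun hn => (W.cover χ).resolve_left hn, fun e hn => W.notMem (e ▸ hn)⟩, sum_singleton] at h
  split_ifs at h ⊢ <;> exact_mod_cast h

theorem invol_zero (hG : Nat.card G = ord) {g : G} (hg : orderOf g = 2) : ival g χ₀ = 1 := by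
  have h := W.lin385 hG (ne_one_of_order hg (by norm_num)) (ival_invol hg)
  rw [map_zipWith, show (l₁ ++ l₂).map (fun χ => (dg χ : ℤ)) = R0.map (fun r => (r.1 : ℤ)) from W.map_recs fun r => (r.1 : ℤ),
    (W.invol g hg).2, show (List.zipWith (· * ·) (R0.map fun r => (r.1 : ℤ)) Z0).sum = -385 by decide +kernel] at h
  omega

theorem conj_two (hG : Nat.card G = ord) {g g' : G} (hg : orderOf g = 2) (hg' : orderOf g' = 2) : IsConj g g' := by
  classical
  by_contra hne
  have h := W.inner g g' (ival_invol hg) (ival_invol hg')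
  rw [if_neg hne, map_zipWith, (W.invol g hg).2, (W.invol g' hg').2, W.invol_zero hG hg, W.invol_zero hG hg',
    show (List.zipWith (· * ·) Z0 Z0).sum = 383 by decide +kernel] at h
  norm_num at h

theorem congr_three : ∀ (j : ℕ) (g : G), g ^ 3 ^ j = 1 → ∀ χ : IrrCharacter G, ∀ v : ℤ, (χ : G → ℂ) g = v →
    (3 : ℤ) ∣ (dg χ : ℤ) - v := by
  intro j
  induction j with
  | zero =>
    intro g hg χ v hv
    rw [pow_zero, pow_one] at hg
    rw [hg, dg_one] at hv
    have : v = (dg χ : ℤ) := by exact_mod_cast hv.symm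
    rw [this]; simp
  | succ j ih =>
    intro g hg χ v hv
    have h3 : (g ^ 3) ^ 3 ^ j = 1 := by rw [← pow_mul, ← pow_succ', hg]
    have hr : ∀ p : ℕ, p.Prime → p ≠ 3 → ¬ p ∣ orderOf (g ^ 3) := fun p hp hne hd => by
      have h4 := hd.trans (orderOf_dvd_of_pow_eq_one h3)
      exact hne ((Nat.prime_dvd_prime_iff_eq hp Nat.prime_three).1 (hp.dvd_of_dvd_pow h4))
    obtain ⟨w, hw⟩ := W.exists_int (hr 11 (by norm_num) (by norm_num)) (hr 7 (by norm_num) (by norm_num)) χ
    have h1 : (3 : ℤ) ∣ w - v := CfsgLib.InvolValues.int_value_congr (p := 3) Nat.prime_three (isCharacter_irr χ)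
      (g := g) (h := g ^ 3) rfl hv hw
    have h2 := ih _ h3 χ w hw
    have := dvd_add h2 h1
    rwa [show (dg χ : ℤ) - w + (w - v) = (dg χ : ℤ) - v by ring] at this

set_option maxHeartbeats 1000000 in
/-- The column at an element of 3-power order. -/
theorem triple (hG : Nat.card G = ord) {g : G} {j : ℕ} (hg : g ^ 3 ^ j = 1) (hg1 : g ≠ 1) :
    (∀ χ : IrrCharacter G, (χ : G → ℂ) g = (ival g χ : ℂ)) ∧
    (Nat.card (cz g), (l₁ ++ l₂).map (ival g), ival g χ₀) ∈ triples := by
  classical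
  obtain ⟨hr11, hr7, hr5⟩ := data hG
  have hr : ∀ p : ℕ, p.Prime → p ≠ 3 → ¬ p ∣ orderOf g := fun p hp hne hd => by
    have h4 := hd.trans (orderOf_dvd_of_pow_eq_one hg)
    exact hne ((Nat.prime_dvd_prime_iff_eq hp Nat.prime_three).1 (hp.dvd_of_dvd_pow h4))
  have h11 := hr 11 (by norm_num) (by norm_num)
  have h7 := hr 7 (by norm_num) (by norm_num)
  have h5 := hr 5 (by norm_num) (by norm_num)
  have hv : ∀ χ : IrrCharacter G, (χ : G → ℂ) g = (ival g χ : ℂ) := fun χ => ival_eq (W.exists_int h11 h7 χ)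
  refine ⟨hv, ?_⟩
  set C := Nat.card (cz g) with hC
  have hdiv : C ∈ divs := mem_divs (hG ▸ Subgroup.card_subgroup_dvd_card _)
  have h9 : 9 ∣ C := by
    haveI : Fact (Nat.Prime 3) := ⟨Nat.prime_three⟩
    obtain ⟨i, -, hi⟩ := (Nat.dvd_prime_pow Nat.prime_three).1 (orderOf_dvd_of_pow_eq_one hg)
    obtain ⟨P, hP⟩ := (IsPGroup.of_card (p := 3) (n := i) (by rw [Nat.card_zpowers, hi]) :
      IsPGroup 3 (Subgroup.zpowers g)).exists_le_sylow
    have hP9 : Nat.card (P : Subgroup G) = 3 ^ 2 :=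
      CfsgLib.SmallSimple.card_sylow_eq P (m := 49280) (by rw [hG]; norm_num [ord]) (by norm_num)
    have hle : (P : Subgroup G) ≤ cz g := fun a ha => mem_cz.2
      (congrArg Subtype.val ((IsPGroup.isMulCommutative_of_card_eq_prime_sq hP9).is_comm.comm ⟨a, ha⟩ ⟨g, hP (Subgroup.mem_zpowers g)⟩))
    exact (show 3 ^ 2 = 9 by norm_num) ▸ hP9 ▸ Subgroup.card_dvd_of_le hle
  have hCmem : C ∈ threes.filter fun C => C % 9 == 0 := by
    refine List.mem_filter.2 ⟨threes_eq C hdiv (Nat.mod_eq_zero_of_dvd ((by norm_num : (3 : ℕ) ∣ 9).trans h9)) ?_ ?_ ?_,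
      beq_iff_eq.2 (Nat.mod_eq_zero_of_dvd h9)⟩
    · exact fun h => not_dvd_cz hr5 rfl hg1 h5 (Nat.dvd_of_mod_eq_zero h)
    · exact fun h => not_dvd_cz hr7 rfl hg1 h7 (Nat.dvd_of_mod_eq_zero h)
    · exact fun h => not_dvd_cz hr11 rfl hg1 h11 (Nat.dvd_of_mod_eq_zero h)
  haveI : Fact (Nat.Prime 2) := ⟨Nat.prime_two⟩
  obtain ⟨z, hz⟩ := exists_prime_orderOf_dvd_card' (G := G) 2 (by rw [hG]; norm_num [ord])
  have hne : ¬ IsConj z g := fun h => by
    have h3 : orderOf g = orderOf z := by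
      obtain ⟨c, rfl⟩ := isConj_iff.1 h
      exact MulEquiv.orderOf_eq (MulAut.conj c) z
    have := orderOf_dvd_of_pow_eq_one hg
    rw [h3, hz] at this
    have := (Nat.prime_dvd_prime_iff_eq Nat.prime_two Nat.prime_three).1 (Nat.prime_two.dvd_of_dvd_pow this)
    omega
  have eO := W.inner z g (ival_invol hz) hv
  rw [if_neg hne, map_zipWith, (W.invol z hz).2, W.invol_zero hG hz] at eO
  have eS := W.inner g g hv hv
  rw [if_pos (IsConj.refl g), ← hC, map_zipWith] at eS
  have e385 := W.lin385 hG hg1 hv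
  rw [map_zipWith, show (l₁ ++ l₂).map (fun χ => (dg χ : ℤ)) = R0.map (fun r => (r.1 : ℤ)) from W.map_recs fun r => (r.1 : ℤ)] at e385
  have eA : (List.zipWith (· * ·) (R0.map fun r => wt x11 r.1) ((l₁ ++ l₂).map (ival g))).sum = 0 := by
    rw [← W.map_recs, ← map_zipWith]
    exact W.frame.lin11 h11 fun χ _ => hv χ
  have eQ : (List.zipWith (· * ·) (R0.map fun r => wt x7u r.1) ((l₁ ++ l₂).map (ival g))).sum = 0 := by
    obtain ⟨P, hQ⟩ := W.blkQ
    rw [← W.map_recs, ← map_zipWith]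
    exact W.frame.linQ hQ rfl (by rw [x5u_facts.2.2.1]; norm_num) (by rw [x5u_facts.2.2.1]; norm_num [x7u]) h7
      fun χ _ => hv χ
  have eB : (List.zipWith (· * ·) (R0.map fun r => if r.2 then wt x5u r.1 else 0) ((l₁ ++ l₂).map (ival g))).sum = 0 := by
    rw [← W.map_recs (fun r => if r.2 then wt x5u r.1 else 0), ← map_zipWith]
    exact W.frame.linB W.blkB h5 fun χ _ => hv χ
  have hdom : ∀ χ : IrrCharacter G, ival g χ * ival g χ ≤ (C : ℤ) → ival g χ ∈ tdom C (dg χ) := by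
    intro χ hsq
    unfold tdom triDom
    simp only
    by_cases h1 : dg χ = 1
    · rw [if_pos (by simp [h1]), List.mem_singleton]
      have := eq_one_of_dg hG h1 g
      rw [hv χ] at this
      exact_mod_cast this
    · rw [if_neg (by simp [h1])]
      have hd : 0 < dg χ := (irr_one χ).2
      refine List.mem_filter.2 ⟨mem_multiples (step_pos hd) (step_dvd hd (hC ▸ class_dvd hG χ (hv χ)))
        (le_min ?_ (abs_le_sqrt_of_sq hsq)), ?_⟩
      · have h2 := norm_lt hG h1 hg1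
        rw [hv χ, Complex.norm_intCast] at h2
        have h3 : |ival g χ| < (dg χ : ℤ) := by exact_mod_cast h2
        have := abs_lt.1 h3
        omega
      · exact decide_eq_true (Int.emod_eq_zero_of_dvd (W.congr_three j g hg χ _ (hv χ)))
  have hmap := W.map_dg
  have hs45 : ∀ χ ∈ l₁ ++ l₂, ∀ χ' ∈ l₁ ++ l₂, dg χ = dg χ' → ival g χ = ival g χ' := fun χ _ χ' _ e => by
    have := W.agree h11 h7 χ χ' e
    rw [hv χ, hv χ'] at this
    exact_mod_cast this
  generalize hl : l₁ ++ l₂ = l at eO eS e385 eA eQ eB hmap hs45 ⊢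
  simp only [R0, List.map_cons, List.map_nil, List.map_eq_cons_iff, List.map_eq_nil_iff] at hmap
  obtain ⟨c1, t1, rfl, d1, c2, t2, rfl, d2, c3, t3, rfl, d3, c4, t4, rfl, d4, c5, t5, rfl, d5, c6, t6, rfl, d6,
    c7, t7, rfl, d7, c8, t8, rfl, d8, c9, t9, rfl, d9, c10, t10, rfl, d10, c11, t11, rfl, d11, rfl⟩ := hmap
  have e1 : ival g c1 = 1 := by
    have := eq_one_of_dg hG d1 g
    rw [hv c1] at this
    exact_mod_cast this
  have e34 : ival g c4 = ival g c3 := hs45 c4 (by simp) c3 (by simp) (d4.trans d3.symm)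
  have e67 : ival g c7 = ival g c6 := hs45 c7 (by simp) c6 (by simp) (d7.trans d6.symm)
  have w11 : (R0.map fun r => wt x11 r.1) = [2, -2, 2, 2, 2, -1, -1, 0, 0, 0, 0] := by decide +kernel
  have w7 : (R0.map fun r => wt x7u r.1) = [2, 0, -1, -1, 0, 0, 0, -2, 0, 2, 0] := by decide +kernel
  have w5 : (R0.map fun r => if r.2 then wt x5u r.1 else 0) = [1, 1, 0, 0, 0, 0, 0, 0, 1, -1, -1] := by
    decide +kernel
  have w0 : (R0.map fun r => (r.1 : ℤ)) = [1, 21, 45, 45, 210, 280, 280, 55, 231, 99, 154] := by decide +kernel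
  rw [w11] at eA
  rw [w7] at eQ
  rw [w5] at eB
  rw [w0] at e385
  simp only [Z0, List.map_cons, List.map_nil, List.zipWith_cons_cons, List.zipWith_nil_left, List.sum_cons,
    List.sum_nil, e1, e34, e67] at eO eS e385 eA eQ eB ⊢
  have hs : ∀ χ : IrrCharacter G, χ = c2 ∨ χ = c3 ∨ χ = c5 ∨ χ = c6 ∨ χ = c8 ∨ χ = c9 ∨ χ = c10 ∨ χ = c11 →
      ival g χ ∈ tdom C (dg χ) := by
    intro χ hχ
    refine hdom χ ?_
    have q1 := mul_self_nonneg (ival g c2)
    have q2 := mul_self_nonneg (ival g c3)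
    have q3 := mul_self_nonneg (ival g c5)
    have q4 := mul_self_nonneg (ival g c6)
    have q5 := mul_self_nonneg (ival g c8)
    have q6 := mul_self_nonneg (ival g c9)
    have q7 := mul_self_nonneg (ival g c10)
    have q8 := mul_self_nonneg (ival g c11)
    have q9 := mul_self_nonneg (ival g χ₀)
    rcases hχ with rfl | rfl | rfl | rfl | rfl | rfl | rfl | rfl <;> linarith
  have m2 := d2 ▸ hs c2 (by tauto)
  have m3 := d3 ▸ hs c3 (by tauto)
  have m5 := d5 ▸ hs c5 (by tauto)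
  have m6 := d6 ▸ hs c6 (by tauto)
  have m8 := d8 ▸ hs c8 (by tauto)
  have m9 := d9 ▸ hs c9 (by tauto)
  have m10 := d10 ▸ hs c10 (by tauto)
  have m11 := d11 ▸ hs c11 (by tauto)
  generalize ival g c2 = a at *
  generalize ival g c3 = b at *
  generalize ival g c5 = c at *
  generalize ival g c6 = d at *
  generalize ival g c8 = f at *
  generalize ival g c9 = gg at *
  generalize ival g c10 = h at *
  generalize ival g c11 = i at *
  generalize ival g χ₀ = v at *
  obtain rfl : d = 1 - a + 2 * b + c := by linarith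
  obtain rfl : f = 1 - b + h := by linarith
  obtain rfl : i = 1 + a - h + gg := by linarith
  have hst := stageD_eq
  simp only [stageD, List.all_eq_true, Bool.or_eq_true, decide_eq_true_eq] at hst
  rcases hst C hCmem a m2 b m3 c m5 with hlt | hall
  · exfalso
    have q1 := mul_self_nonneg (1 - a + 2 * b + c)
    have q2 := mul_self_nonneg (1 - b + h)
    have q3 := mul_self_nonneg (1 + a - h + gg)
    have q4 := mul_self_nonneg gg
    have q5 := mul_self_nonneg h
    have q6 := mul_self_nonneg v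
    linarith
  have hstep := hall h m10
  unfold triStep at hstep
  simp only at hstep
  set K := 385 * (1 + 5 * a - 6 * b + 2 * c - 16 * (1 - a + 2 * b + c) + 7 * (1 - b + h) + 3 * h + 10 * (1 + a - h)) -
    (1 + 21 * a + 90 * b + 210 * c + 560 * (1 - a + 2 * b + c) + 55 * (1 - b + h) + 99 * h + 154 * (1 + a - h)) with hK
  have hKg : K = 6160 * (-gg) := by rw [hK]; linear_combination 385 * eO - e385
  have hlin : 1 + 21 * a + 90 * b + 210 * c + 560 * (1 - a + 2 * b + c) + 55 * (1 - b + h) + 231 * gg + 99 * h +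
      154 * (1 + a - h + gg) = 385 * (-v) := by linear_combination e385
  rw [if_pos (by rw [beq_iff_eq, hKg]; exact Int.mul_emod_right _ _),
    show -(K / 6160) = gg by rw [hKg, Int.mul_ediv_cancel_left _ (by norm_num)]; ring,
    hlin, Int.mul_emod_right, Int.mul_ediv_cancel_left _ (by norm_num : (385 : ℤ) ≠ 0), neg_neg] at hstep
  simp only [ne_eq, not_true_eq_false, decide_false, Bool.false_or, Bool.or_eq_true, Bool.not_eq_true',
    decide_eq_true_eq, List.contains_eq_mem] at hstep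
  rcases hstep with (hsum | hdoms) | hmem
  · exact absurd (by linarith) hsum
  · rw [decide_eq_true m6, decide_eq_true m8, decide_eq_true m9, decide_eq_true m11] at hdoms
    simp at hdoms
  · exact hmem

theorem conj_three (hG : Nat.card G = ord) {g g' : G} {j j' : ℕ} (hg : g ^ 3 ^ j = 1) (hg1 : g ≠ 1)
    (hg' : g' ^ 3 ^ j' = 1) (hg1' : g' ≠ 1) : IsConj g g' := by
  classical
  by_contra hne
  obtain ⟨hv, hm⟩ := W.triple hG hg hg1
  obtain ⟨hv', hm'⟩ := W.triple hG hg' hg1'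
  have h := W.inner g g' hv hv'
  rw [if_neg hne, map_zipWith] at h
  have ht := triInner_eq
  simp only [triInner, List.all_eq_true, decide_eq_true_eq] at ht
  exact ht _ hm _ hm' h

end Pinned

end CfsgLib.M22Order
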