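import Cfsg.Agent.M22Id.Order.Cols
import Cfsg.Agent.M22Id.Order.CheckDefs

/-!
# What an involution and a generator contribute to the searches
-/

set_option autoImplicit false
set_option linter.style.haveILetI false
set_option linter.unusedSectionVars false

namespace CfsgLib.M22Order

open Cfsg Finset CfsgLib.Block CfsgLib.Block.Chr CfsgLib.BrauerPairs CfsgLib.BrauerPrime
open scoped ComplexConjugate

universe u

variable {G : Type u} [Group G] [Fintype G]

/-- The integral values at an involution. -/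
noncomputable def ival {G : Type u} [Group G] (g : G) (χ : IrrCharacter G) : ℤ :=
  haveI := Classical.propDecidable (∃ j : ℤ, (χ : G → ℂ) g = (j : ℂ))
  if h : ∃ j : ℤ, (χ : G → ℂ) g = (j : ℂ) then Classical.choose h else 0

theorem ival_eq {g : G} {χ : IrrCharacter G} (h : ∃ j : ℤ, (χ : G → ℂ) g = (j : ℂ)) :
    (χ : G → ℂ) g = (ival g χ : ℂ) := by
  rw [ival, dif_pos h]
  exact Classical.choose_spec h

theorem ival_invol {g : G} (hg : orderOf g = 2) (χ : IrrCharacter G) : (χ : G → ℂ) g = (ival g χ : ℂ) := by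
  obtain ⟨j, hj, -⟩ := exists_int_value χ (t := g) (by rw [← hg]; exact pow_orderOf_eq_one g)
  exact ival_eq ⟨j, hj⟩

theorem ne_one_of_order {g : G} {n : ℕ} (hg : orderOf g = n) (hn : n ≠ 1) : g ≠ 1 := fun h =>
  hn (by rw [← hg, h, orderOf_one])

theorem regular_of_two {g : G} (hg : orderOf g = 2) {p : ℕ} (hp : 2 < p) : ¬ p ∣ orderOf g := fun h => by
  rw [hg] at h
  have := Nat.le_of_dvd two_pos h
  omega

theorem abs_le_sqrt_of_sq {C : ℕ} {v : ℤ} (h : v * v ≤ (C : ℤ)) : v.natAbs ≤ Nat.sqrt C := by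
  refine Nat.le_sqrt.2 ?_
  rw [← Int.natAbs_mul_self'] at h
  exact_mod_cast h

theorem sq_term_le {α : Type*} {l : List α} {v : α → ℤ} {a : α} (ha : a ∈ l) :
    v a * v a ≤ (l.map fun a => v a * v a).sum :=
  List.single_le_sum (fun x hx => by
    obtain ⟨c, -, rfl⟩ := List.mem_map.1 hx
    exact mul_self_nonneg _) _ (List.mem_map.2 ⟨a, ha, rfl⟩)

namespace Frame

variable {k : Cfg} {m : ℕ} {A Bf Q : Finset (IrrCharacter G)} {PB : Subgroup G}
  {R : List Rec} {l₁ l₂ : List (IrrCharacter G)} (F : Frame k m A Bf Q PB R l₁ l₂)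

include F

theorem mem_invDom [IsSimpleGroup G] (hG : Nat.card G = ord) {g : G} (hg : orderOf g = 2) (cong : Bool)
    (hcong : cong = true → 2 < k.1.1 ∧ k.1.1 % 2 = 1 ∧ g ∈ Subgroup.centralizer (PB : Set G))
    {χ : IrrCharacter G} (hχ : χ ∈ l₁ ++ l₂) :
    ival g χ ∈ invDom k cong (Nat.card (cz g)) (recOf Bf χ) := by
  have hv := ival_invol hg χ
  have hg1 := ne_one_of_order hg (by norm_num)
  show ival g χ ∈ invDom k cong (Nat.card (cz g)) (dg χ, (recOf Bf χ).2)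
  unfold invDom
  simp only
  by_cases h1 : dg χ = 1
  · rw [if_pos (by simp [h1]), List.mem_singleton]
    have := eq_one_of_dg hG h1 g
    rw [hv] at this
    exact_mod_cast this
  · rw [if_neg (by simp [h1])]
    have hd : 0 < dg χ := (irr_one χ).2
    refine List.mem_filter.2 ⟨mem_multiples (step_pos hd) (step_dvd hd (class_dvd hG χ hv)) ?_, ?_⟩
    · have hsq := (sq_term_le (v := ival g) hχ).trans (F.sq_le hG hg1 fun ψ _ => ival_invol hg ψ)
      refine le_min ?_ (abs_le_sqrt_of_sq hsq)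
      have h2 := norm_lt hG h1 hg1
      rw [hv, Complex.norm_intCast] at h2
      have h3 : |ival g χ| < (dg χ : ℤ) := by exact_mod_cast h2
      have := abs_lt.1 h3
      omega
    · simp only [Bool.and_eq_true, decide_eq_true_eq, Bool.or_eq_true, Bool.not_eq_true']
      haveI : IsSimpleGroup G := inferInstance
      have hperf : commutator G = ⊤ := by
        refine (Subgroup.Normal.eq_bot_or_eq_top (inferInstance : (commutator G).Normal)).resolve_left fun h => ?_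
        rw [commutator_def, Subgroup.commutator_eq_bot_iff_le_centralizer] at h
        exact not_comm hG ⟨⟨fun a b => (Subgroup.mem_centralizer_iff.1 (h (Subgroup.mem_top b)) a
            (Subgroup.mem_top a))⟩⟩
      obtain ⟨j, hj, h4, -, -⟩ := CfsgLib.InvolValues.invol_mod_four hperf (isCharacter_irr χ) (t := g)
        (by rw [← sq, ← hg]; exact pow_orderOf_eq_one g) (d := dg χ) (dg_one χ)
      rw [hv] at hj
      rw [show j = ival g χ from by exact_mod_cast hj.symm] at h4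
      refine ⟨Int.emod_eq_zero_of_dvd h4, ?_⟩
      by_cases hf : (cong && (recOf Bf χ).2) = true
      · rw [Bool.and_eq_true] at hf
        obtain ⟨hp2, hodd, hu⟩ := hcong hf.1
        by_cases hr : dg χ % k.1.1 = 1 ∨ dg χ % k.1.1 = k.1.1 - 1
        · refine Or.inr ?_
          rcases F.blkB with e | hB
          · exact absurd (recOf_snd.1 hf.2) (by rw [e]; simp)
          · have := hB.cong g hu (regular_of_two hg hp2)
              (by rw [← Nat.div_add_mod k.1.1 2, hodd, pow_succ, pow_mul,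
                show g ^ 2 = 1 by rw [← hg]; exact pow_orderOf_eq_one g, one_pow, one_mul])
              (fun ψ _ => ⟨_, ival_invol hg ψ⟩) χ (recOf_snd.1 hf.2) hr _ hv
            refine Int.emod_eq_zero_of_dvd ?_
            unfold sgn at this
            exact this
        · refine Or.inl (Or.inr ?_)
          simp only [bne_iff_ne, ne_eq]
          exact not_or.1 hr
      · exact Or.inl (Or.inl (Bool.eq_false_iff.2 hf))

theorem lists_eq (v : IrrCharacter G → ℤ) {dom : Rec → List ℤ} (f : Node → ℤ → ℤ) (g : Rec → ℤ → ℤ)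
    (hf : ∀ p r x, f (mkNode k dom p r) x = g r x) :
    tot f (nodes k dom none R) ((l₁ ++ l₂).map v) = ((l₁ ++ l₂).map fun χ => g (recOf Bf χ) (v χ)).sum := by
  rw [← F.map]; exact tot_map f g hf _ _

/-- An involution gives one of the columns, subject to a further test. -/
theorem mem_invCols [IsSimpleGroup G] (hG : Nat.card G = ord) (hm0 : 0 < m) (hq : 2 < k.2.1) (hB1 : 2 < k.1.1)
    {g : G} (hg : orderOf g = 2) (kind : Kind) (cong : Bool)
    (hcong : cong = true → 2 < k.1.1 ∧ k.1.1 % 2 = 1 ∧ g ∈ Subgroup.centralizer (PB : Set G))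
    (hQ : kind ≠ .alone → Block k.1 PB Bf ∧ k.2.2.2 = 1 ∧ 0 < ee k.2 ∧ ee k.2 < k.2.1 ∧ ∃ P, Block k.2 P Q)
    (hodd : kind = .free ∨ kind = .both → ee k.2 % 2 = 1)
    (hboth : kind = .both → k.1.2.2 = 1) :
    (l₁ ++ l₂).map (ival g) ∈ invCols k kind cong R m (Nat.card (cz g)) := by
  have hg1 := ne_one_of_order hg (by norm_num)
  have hv : ∀ χ ∈ l₁ ++ l₂, (χ : G → ℂ) g = (ival g χ : ℂ) := fun χ _ => ival_invol hg χ
  have h11 : ¬ 11 ∣ orderOf g := regular_of_two hg (by norm_num)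
  have hgg : g * g = 1 := by rw [← sq, ← hg]; exact pow_orderOf_eq_one g
  have hFam : Fam k (invDom k cong (Nat.card (cz g))) (recOf Bf) (ival g) (l₁ ++ l₂) :=
    ⟨fun χ hχ => F.mem_invDom hG hg cong hcong hχ,
      F.same h11 (regular_of_two hg hq) (Or.inr (regular_of_two hg hB1)) hv⟩
  have hlin : ((l₁ ++ l₂).map fun χ => wt x11 (recOf Bf χ).1 * ival g χ).sum = 0 := F.lin11 h11 hv
  obtain ⟨htake, hsol, hext⟩ := hFam.parts rfl (fun χ hχ => F.h₁ χ hχ) (fun χ hχ => F.h₂ χ hχ)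
    (F.sq_le hG hg1 hv) hlin
  obtain ⟨N, hN, -, hN0⟩ := F.quad11 h11 h11 hv hv
  rw [F.map] at htake hsol hext
  unfold invCols
  simp only
  rw [columns, List.mem_flatMap]
  refine ⟨l₁.map (ival g), List.mem_filter.2 ⟨hsol, ?_⟩, List.mem_filter.2
    ⟨List.mem_map.2 ⟨_, hext, (List.map_append).symm⟩, ?_⟩⟩
  · rw [decide_eq_true_eq, htake, quad_map (·.w0) (fun r => wt x11 r.1) (fun _ _ => rfl)]
    rw [hN0 rfl hgg, Nat.cast_zero, mul_zero] at hN
    exact hN
  rw [Bool.and_eq_true]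
  refine ⟨F.roomOK hG hm0 hg1 hv _, ?_⟩
  cases kind
  · rfl
  all_goals
    obtain ⟨hB, hc, he, he', P, hQb⟩ := hQ (by simp)
    have hqg := regular_of_two hg hq
    obtain ⟨N', hN', hN0'⟩ := F.quadQ hQb hc he he' hqg hqg hv hv
    have hwf : tot (fun n x => n.wf * x) (nodes k (invDom k cong (Nat.card (cz g))) none R) ((l₁ ++ l₂).map (ival g)) = 0 := by
      rw [F.lists_eq _ (fun n x => n.wf * x) (fun r x => (if r.2 then wt k.1 r.1 else 0) * x) (fun _ _ _ => rfl)]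
      exact F.linB hB (regular_of_two hg hB1) hv
    have hwq : tot (fun n x => n.wq * x) (nodes k (invDom k cong (Nat.card (cz g))) none R) ((l₁ ++ l₂).map (ival g)) = 0 := by
      rw [F.lists_eq _ (fun n x => n.wq * x) (fun r x => wt k.2 r.1 * x) (fun _ _ _ => rfl)]
      exact F.linQ hQb hc he he' hqg hv
    have hqq : quad (·.wq) (nodes k (invDom k cong (Nat.card (cz g))) none R) ((l₁ ++ l₂).map (ival g)) =
        ((Nat.card (cz g) * Nat.card (cz g) * ss k.2 : ℕ) : ℤ) * N' := by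
      rw [← F.map, quad_map (·.wq) (fun r => wt k.2 r.1) (fun _ _ => rfl)]
      exact hN'
    simp only [Bool.and_eq_true, decide_eq_true_eq]
  · refine ⟨⟨⟨hwf, hwq⟩, hqq ▸ mul_nonneg (Int.natCast_nonneg _) (Int.natCast_nonneg _)⟩, ?_⟩
    rw [hqq]
    exact Int.mul_emod_right _ _
  · refine ⟨⟨hwf, hwq⟩, ?_⟩
    rw [hqq, hN0' rfl hgg (hodd (Or.inl rfl)), Nat.cast_zero, mul_zero]
  · obtain ⟨N'', hN''⟩ := F.quadB hB (hboth rfl) (regular_of_two hg hB1) (regular_of_two hg hB1) hv hv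
    have hqf : quad (·.wf) (nodes k (invDom k cong (Nat.card (cz g))) none R) ((l₁ ++ l₂).map (ival g)) =
        ((Nat.card (cz g) * Nat.card (cz g) * ss k.1 : ℕ) : ℤ) * N'' := by
      rw [← F.map, quad_map (·.wf) (fun r => if r.2 then wt k.1 r.1 else 0) (fun _ _ => rfl)]
      exact hN''
    refine ⟨⟨⟨⟨hwf, hwq⟩, ?_⟩, hqf ▸ mul_nonneg (Int.natCast_nonneg _) (Int.natCast_nonneg _)⟩, ?_⟩
    · rw [hqq, hN0' rfl hgg (hodd (Or.inr rfl)), Nat.cast_zero, mul_zero]
    · rw [hqf]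
      exact Int.mul_emod_right _ _

theorem mem_genDom (hG : Nat.card G = ord) (hp : k.1.1.Prime) (hB : Block k.1 PB Bf) (hs : ss k.1 = 1) {y : G}
    (hy : y ∈ PB) (hy1 : y ≠ 1) (hyp : y ^ k.1.1 = 1) (hyc : Nat.card (cz y) = k.1.1 * k.1.2.2)
    (hv : ∀ χ ∈ l₁ ++ l₂, (χ : G → ℂ) y = (ival y χ : ℂ)) {χ : IrrCharacter G} (hχ : χ ∈ l₁ ++ l₂) :
    ival y χ ∈ genDom k.1 (recOf Bf χ) := by
  show ival y χ ∈ genDom k.1 (dg χ, (recOf Bf χ).2)
  unfold genDom
  simp only
  by_cases hf : (recOf Bf χ).2 = true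
  · rw [if_pos hf, List.mem_singleton]
    have h := hB.gen hs y hy hy1 χ (recOf_snd.1 hf)
    rw [hv χ hχ] at h
    exact (show ival y χ = sgn k.1.1 (dg χ) by exact_mod_cast h)
  · rw [if_neg hf]
    have hd : 0 < dg χ := (irr_one χ).2
    refine List.mem_filter.2 ⟨mem_multiples (step_pos hd) ?_ ?_, ?_⟩
    · rw [← hyc]; exact step_dvd hd (class_dvd hG χ (hv χ hχ))
    · rw [← hyc]
      exact abs_le_sqrt_of_sq ((sq_term_le (v := ival y) hχ).trans (F.sq_le hG hy1 hv))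
    · rw [decide_eq_true_eq]
      exact Int.emod_eq_zero_of_dvd (CfsgLib.InvolValues.int_value_congr hp (isCharacter_irr χ) hyp (hv χ hχ)
        (show (χ : G → ℂ) 1 = (((dg χ : ℕ) : ℤ) : ℂ) by rw [dg_one]; norm_cast))

/-- An involution and a generator of the free Sylow subgroup are incompatible with the test. -/
theorem false_of_crossFree [IsSimpleGroup G] (hG : Nat.card G = ord) (hm0 : 0 < m) (hp : k.1.1.Prime)
    (hodd : k.1.1 % 2 = 1) (hp3 : 2 < k.1.1) (hp11 : k.1.1 ≠ 11) (hpq : k.1.1 ≠ k.2.1) (hs : ss k.1 = 1)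
    (hB : Block k.1 PB Bf) (hc : k.2.2.2 = 1) (he : 0 < ee k.2) (he' : ee k.2 < k.2.1) (heodd : ee k.2 % 2 = 1)
    (hqp : k.2.1.Prime) (hq : 2 < k.2.1) {P : Subgroup G} (hQb : Block k.2 P Q)
    {g : G} (hg : orderOf g = 2) (hgC : g ∈ Subgroup.centralizer (PB : Set G))
    {y : G} (hy : y ∈ PB) (hy2 : orderOf y = k.1.1) (hyc : Nat.card (cz y) = k.1.1 * k.1.2.2)
    (hyv : ∀ χ : IrrCharacter G, ∃ j : ℤ, (χ : G → ℂ) y = (j : ℂ))
    (hchk : crossFree k R m (Nat.card (cz g)) = true) : False := by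
  have hy1 := ne_one_of_order hy2 hp.one_lt.ne'
  have hv : ∀ χ ∈ l₁ ++ l₂, (χ : G → ℂ) y = (ival y χ : ℂ) := fun χ _ => ival_eq (hyv χ)
  have hu : ∀ χ ∈ l₁ ++ l₂, (χ : G → ℂ) g = (ival g χ : ℂ) := fun χ _ => ival_invol hg χ
  have h11 : ¬ 11 ∣ orderOf y := by
    rw [hy2]; exact fun h => hp11 ((Nat.prime_dvd_prime_iff_eq (by norm_num) hp).1 h).symm
  have hqy : ¬ k.2.1 ∣ orderOf y := by
    rw [hy2]; exact fun h => hpq ((Nat.prime_dvd_prime_iff_eq hqp hp).1 h).symm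
  have h11g : ¬ 11 ∣ orderOf g := regular_of_two hg (by norm_num)
  have hqg := regular_of_two hg hq
  have hinv := F.mem_invCols hG hm0 hq hp3 hg .free true (fun _ => ⟨hp3, hodd, hgC⟩)
    (fun _ => ⟨hB, hc, he, he', P, hQb⟩) (fun _ => heodd) (fun h => by simp at h)
  have hFam : Fam k (genDom k.1) (recOf Bf) (ival y) (l₁ ++ l₂) :=
    ⟨fun χ hχ => F.mem_genDom hG hp hB hs hy hy1 (by rw [← hy2]; exact pow_orderOf_eq_one y) hyc hv hχ,
      F.same h11 hqy (Or.inl hs) hv⟩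
  obtain ⟨htake, hsol, hext⟩ := hFam.parts rfl (fun χ hχ => F.h₁ χ hχ) (fun χ hχ => F.h₂ χ hχ)
    (b := ((k.1.1 * k.1.2.2 : ℕ) : ℤ)) (hyc ▸ F.sq_le hG hy1 hv) (F.lin11 h11 hv)
  obtain ⟨N, hN, -, -⟩ := F.quad11 h11 h11 hv hv
  obtain ⟨N', hN', -⟩ := F.quadQ hQb hc he he' hqy hqy hv hv
  rw [F.map] at htake hsol hext
  rw [hyc] at hN hN'
  have hgen : (l₁ ++ l₂).map (ival y) ∈ genCols k R m := by
    have hq0 : quad (·.w0) (nodes k (genDom k.1) none (l₁.map (recOf Bf))) (l₁.map (ival y)) =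
        ((k.1.1 * k.1.2.2 * (k.1.1 * k.1.2.2) * ss x11 : ℕ) : ℤ) * N := by
      rw [quad_map (·.w0) (fun r => wt x11 r.1) (fun _ _ => rfl)]; exact hN
    have hqq : quad (·.wq) (nodes k (genDom k.1) none R) ((l₁ ++ l₂).map (ival y)) =
        ((k.1.1 * k.1.2.2 * (k.1.1 * k.1.2.2) * ss k.2 : ℕ) : ℤ) * N' := by
      rw [← F.map, quad_map (·.wq) (fun r => wt k.2 r.1) (fun _ _ => rfl)]; exact hN'
    unfold genCols
    simp only
    rw [List.mem_flatMap]
    refine ⟨l₁.map (ival y), List.mem_filter.2 ⟨hsol, ?_⟩, List.mem_filter.2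
      ⟨List.mem_map.2 ⟨_, hext, (List.map_append).symm⟩, ?_⟩⟩
    · simp only [Bool.and_eq_true, decide_eq_true_eq]
      rw [htake, hq0]
      exact ⟨mul_nonneg (Int.natCast_nonneg _) (Int.natCast_nonneg _), Int.mul_emod_right _ _⟩
    · simp only [Bool.and_eq_true, decide_eq_true_eq]
      rw [hqq]
      refine ⟨⟨⟨?_, ?_⟩, mul_nonneg (Int.natCast_nonneg _) (Int.natCast_nonneg _)⟩, Int.mul_emod_right _ _⟩
      · rw [← hyc]; exact F.roomOK hG hm0 hy1 hv _
      · rw [F.lists_eq _ (fun n x => n.wq * x) (fun r x => wt k.2 r.1 * x) (fun _ _ _ => rfl)]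
        exact F.linQ hQb hc he he' hqy hv
  obtain ⟨M₁, -, hM₁, -⟩ := F.quad11 h11g h11 hu hv
  obtain ⟨M₂, hM₂, -⟩ := F.quadQ hQb hc he he' hqg hqy hu hv
  rw [hyc] at hM₁ hM₂
  unfold crossFree at hchk
  simp only [List.all_eq_true] at hchk
  have h := hchk _ hinv _ hgen
  simp only [Bool.not_eq_true', Bool.and_eq_false_iff, decide_eq_false_iff_not] at h
  rw [← F.map, quad2_map (·.w0) (fun r => wt x11 r.1) (fun _ _ => rfl),
    quad2_map (·.wq) (fun r => wt k.2 r.1) (fun _ _ => rfl)] at h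
  change ((((l₁ ++ l₂).map fun χ => wt x11 (dg χ) * ival g χ * ival y χ * ((ord / dg χ : ℕ) : ℤ)).sum %
      ((Nat.card (cz g) * (k.1.1 * k.1.2.2) * ss x11 : ℕ) : ℤ)) ≠ 0 ∨
    ((((l₁ ++ l₂).map fun χ => wt k.2 (dg χ) * ival g χ * ival y χ * ((ord / dg χ : ℕ) : ℤ)).sum %
      ((Nat.card (cz g) * (k.1.1 * k.1.2.2) * ss k.2 : ℕ) : ℤ)) ≠ 0)) at h
  rw [hM₁, hM₂, Int.mul_emod_right, Int.mul_emod_right] at h
  simp at h

end Frame

end CfsgLib.M22Order
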