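/-
Completeness of the lists of degrees for the group of order 443520.
-/
import Cfsg.Agent.M22Id.Order.Search
import Mathlib.NumberTheory.Divisors
import Mathlib.Algebra.BigOperators.Group.List.Basic

set_option autoImplicit false

namespace CfsgLib.M22Order

theorem exists_head : ∀ (D l : List ℕ), l ≠ [] → (∀ v ∈ l, v ∈ D) →
    ∃ al ∈ heads D, al.1 ∈ l ∧ ∀ v ∈ l, v ∈ al.2 := by
  intro D
  induction D with
  | nil =>
    intro l hl h
    cases l with
    | nil => exact absurd rfl hl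
    | cons v t => exact absurd (h v List.mem_cons_self) (by simp)
  | cons a D ih =>
    intro l hl h
    by_cases ha : a ∈ l
    · exact ⟨(a, a :: D), by simp [heads], ha, h⟩
    · obtain ⟨al, h1, h2⟩ := ih l hl fun v hv => ((List.mem_cons.1 (h v hv)).resolve_left fun e => ha (e ▸ hv))
      exact ⟨al, by simp [heads, h1], h2⟩

/-- Every multiset with the right sum and small squares is generated. -/
theorem mem_gen (w : ℕ → ℤ) : ∀ (n : ℕ) (D : List ℕ) (t : ℤ) (b : ℕ) (l : List ℕ), l.length = n →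
    (∀ v ∈ l, v ∈ D) → (l.map fun v : ℕ => w v * (v : ℤ)).sum = t → (l.map fun v => v * v).sum ≤ b →
    ∃ l' ∈ gen w n D t b, l'.Perm l := by
  intro n
  induction n with
  | zero =>
    intro D t b l hl _ ht _
    rw [List.length_eq_zero_iff] at hl
    subst hl
    exact ⟨[], by simp at ht; simp [gen, ← ht], List.Perm.refl _⟩
  | succ n ih =>
    intro D t b l hl hD ht hb
    obtain ⟨al, hal, ha, hsub⟩ := exists_head D l (fun e => by simp [e] at hl) hD
    have hp : l.Perm (al.1 :: l.erase al.1) := List.perm_cons_erase ha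
    rw [(hp.map _).sum_eq, List.map_cons, List.sum_cons] at ht
    rw [(hp.map _).sum_eq, List.map_cons, List.sum_cons] at hb
    obtain ⟨l', hl', hperm⟩ := ih al.2 (t - w al.1 * al.1) (b - al.1 * al.1) (l.erase al.1)
      (by rw [List.length_erase_of_mem ha, hl]; rfl) (fun v hv => hsub v (List.mem_of_mem_erase hv))
      (by omega) (by omega)
    refine ⟨al.1 :: l', ?_, (hperm.cons _).trans hp.symm⟩
    simp only [gen, List.mem_flatMap]
    refine ⟨al, hal, ?_⟩
    rw [if_pos (show Nat.ble _ _ = true by rw [Nat.ble_eq]; omega)]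
    exact List.mem_map.2 ⟨l', hl', rfl⟩

theorem mem_divs {v : ℕ} (h : v ∣ ord) : v ∈ divs := by
  rw [show ord = 128 * 9 * 5 * 7 * 11 from rfl] at h
  obtain ⟨u₁, f, h₁, hf, rfl⟩ := Nat.dvd_mul.1 h
  obtain ⟨u₂, e, h₂, he, rfl⟩ := Nat.dvd_mul.1 h₁
  obtain ⟨u₃, c, h₃, hc, rfl⟩ := Nat.dvd_mul.1 h₂
  obtain ⟨a, b, ha, hb, rfl⟩ := Nat.dvd_mul.1 h₃
  simp only [divs, List.mem_flatMap, List.mem_map]
  exact ⟨a, (show ∀ a ∈ Nat.divisors 128, a ∈ [1, 2, 4, 8, 16, 32, 64, 128] by decide +kernel) a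
      (Nat.mem_divisors.2 ⟨ha, by norm_num⟩),
    b, (show ∀ a ∈ Nat.divisors 9, a ∈ [1, 3, 9] by decide +kernel) b (Nat.mem_divisors.2 ⟨hb, by norm_num⟩),
    c, (show ∀ a ∈ Nat.divisors 5, a ∈ [1, 5] by decide +kernel) c (Nat.mem_divisors.2 ⟨hc, by norm_num⟩),
    e, (show ∀ a ∈ Nat.divisors 7, a ∈ [1, 7] by decide +kernel) e (Nat.mem_divisors.2 ⟨he, by norm_num⟩),
    f, (show ∀ a ∈ Nat.divisors 11, a ∈ [1, 11] by decide +kernel) f (Nat.mem_divisors.2 ⟨hf, by norm_num⟩), rfl⟩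

theorem small_table : ∀ v ∈ divs, v * v < ord → v ∈ small := by decide +kernel

theorem elevens_table : ∀ v ∈ small, v % 11 = 0 → v ∈ elevens := by decide +kernel

theorem mem_small {v : ℕ} (h : v ∣ ord) (hv : v * v < ord) : v ∈ small := small_table v (mem_divs h) hv

/-- The degrees of a principal block, as the search needs them. -/
structure BlockDegs (x : Dat) (xs : List ℕ) (y : ℕ) : Prop where
  s1 : 1 ≤ ss x
  lenX : xs.length + 1 = ee x
  resX : ∀ v ∈ xs, v % x.1 = 1 ∨ v % x.1 = x.1 - 1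
  resY : y % x.1 = ee x ∨ y % x.1 = x.1 - ee x
  resY1 : ss x = 1 → y % x.1 = 1 ∨ y % x.1 = x.1 - 1
  dvd : ∀ v ∈ y :: xs, v ∣ ee x * x.2.1
  two : ∀ v ∈ y :: xs, 2 ≤ v
  big : x.2.2 ≠ 1 → ∀ v ∈ y :: xs, 2 * x.1 ≤ v
  sq : 1 + (xs.map fun v => v * v).sum + ss x * (y * y) ≤ ord
  rel : (ss x : ℤ) + (xs.map fun v : ℕ => wt x v * (v : ℤ)).sum + (ss x : ℤ) * (wt x y * (y : ℤ)) = 0

/-- The degrees of a principal block, with their multiplicities. -/
def blockList (x : Dat) (xs : List ℕ) (y : ℕ) : List ℕ := 1 :: xs ++ List.replicate (ss x) y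

theorem BlockDegs.mem_cands {x : Dat} {xs : List ℕ} {y : ℕ} (B : BlockDegs x xs y) {D : List ℕ}
    (hD : ∀ v ∈ y :: xs, v ∈ D) {v : ℕ} (hv : v ∈ y :: xs) : v ∈ cands x D := by
  have hle : v * v ≤ (xs.map fun v => v * v).sum + ss x * (y * y) := by
    rcases List.mem_cons.1 hv with rfl | h
    · have := Nat.le_mul_of_pos_left (v * v) B.s1
      omega
    · have := List.le_sum_of_mem (List.mem_map.2 ⟨v, h, rfl⟩ : v * v ∈ xs.map fun v => v * v)
      omega
  have := B.sq
  simp only [cands, List.mem_filter, Bool.and_eq_true, decide_eq_true_eq, Nat.ble_eq, Bool.or_eq_true, beq_iff_eq]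
  refine ⟨hD v hv, ⟨⟨Nat.mod_eq_zero_of_dvd (B.dvd v hv), B.two v hv⟩, by omega⟩, ?_⟩
  by_cases hc : x.2.2 = 1
  · exact Or.inl hc
  · exact Or.inr (B.big hc v hv)

/-- The list of degrees is among the candidates. -/
theorem BlockDegs.exists_list {x : Dat} {xs : List ℕ} {y : ℕ} (B : BlockDegs x xs y) {D : List ℕ}
    (hD : ∀ v ∈ y :: xs, v ∈ D) : ∃ L ∈ lists x D, L.Perm (blockList x xs y) := by
  have hmemX : ∀ v ∈ y :: xs, (v % x.1 = 1 ∨ v % x.1 = x.1 - 1) →
      v ∈ (cands x D).filter fun v => v % x.1 == 1 || v % x.1 == x.1 - 1 := fun v hv hr =>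
    List.mem_filter.2 ⟨B.mem_cands hD hv, by simpa [Bool.or_eq_true, beq_iff_eq] using hr⟩
  have hsq := B.sq
  have hrel := B.rel
  unfold lists
  simp only
  by_cases hs : ss x = 1
  · rw [if_pos (beq_iff_eq.2 hs)]
    rw [hs, Nat.cast_one, one_mul] at hrel
    rw [hs, one_mul] at hsq
    obtain ⟨l', hl', hp⟩ := mem_gen (wt x) (ee x) _ (-1) (ord - 1) (y :: xs)
      (by rw [List.length_cons, B.lenX]) (fun v hv => hmemX v hv (by
        rcases List.mem_cons.1 hv with rfl | h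
        · exact B.resY1 hs
        · exact B.resX v h))
      (by rw [List.map_cons, List.sum_cons]; omega) (by rw [List.map_cons, List.sum_cons]; omega)
    refine ⟨1 :: l', List.mem_map.2 ⟨l', hl', rfl⟩, ?_⟩
    unfold blockList
    rw [hs]
    exact (hp.cons 1).trans ((List.perm_append_comm (l₁ := [y]) (l₂ := xs)).cons 1)
  · rw [if_neg (by simpa using hs)]
    obtain ⟨l', hl', hp⟩ := mem_gen (wt x) (ee x - 1) _ (-(ss x : ℤ) - (ss x : ℤ) * (wt x y * y))
      (ord - 1 - ss x * (y * y)) xs (by have := B.lenX; omega)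
      (fun v hv => hmemX v (List.mem_cons_of_mem _ hv) (B.resX v hv)) (by omega) (by omega)
    refine ⟨(1 :: l') ++ List.replicate (ss x) y, List.mem_flatMap.2 ⟨y, ?_, ?_⟩, (hp.cons 1).append_right _⟩
    · exact List.mem_filter.2 ⟨B.mem_cands hD List.mem_cons_self, by simpa [Bool.or_eq_true, beq_iff_eq] using B.resY⟩
    · rw [if_pos (show Nat.ble _ _ = true by rw [Nat.ble_eq]; omega)]
      exact List.mem_map.2 ⟨l', hl', rfl⟩

end CfsgLib.M22Order
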