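import Cfsg.Agent.M22Id.Order.Final
import Cfsg.Agent.M22Id.Iso
import Cfsg.Agent.M22Id.ModelCount

/-!
# The counts of a simple group of order 443520
-/

set_option autoImplicit false
set_option linter.style.haveILetI false
set_option linter.unusedSectionVars false

namespace CfsgLib.M22Order

open Subgroup CfsgLib.M11Nse CfsgLib.M12Nse CfsgLib.M22Id

universe u

theorem model_counts : M22Id.Counts ↥Cfsg.Spor.M22 :=
  have hM : Nse ↥Cfsg.Spor.M22 :=
    { card := CfsgLib.Golay.SylowCert.card_M22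
      vals := fun n => by
        rw [cnt_model]; unfold cval; split <;> simp
      all := fun c hc => by
        simp only [Finset.mem_insert, Finset.mem_singleton] at hc
        rcases hc with rfl | rfl | rfl
        exacts [⟨6, cnt_model 6⟩, ⟨4, cnt_model 4⟩, ⟨8, cnt_model 8⟩] }
  hM.counts

variable {G : Type u} [Group G] [Fintype G] [IsSimpleGroup G]

/-- An element of order three centralises an involution. -/
theorem exists_three_commute {A B Q : Finset (Cfsg.IrrCharacter G)} {PB : Subgroup G} {l₁ l₂ : List (Cfsg.IrrCharacter G)}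
    {χ₀ : Cfsg.IrrCharacter G} (W : Pinned A B Q PB l₁ l₂ χ₀) {w : G} (hw : orderOf w = 2) :
    ∃ t : G, orderOf t = 3 ∧ t * w = w * t := by
  haveI : Fact (Nat.Prime 3) := ⟨Nat.prime_three⟩
  obtain ⟨⟨t, ht⟩, ht3⟩ := exists_prime_orderOf_dvd_card' (G := M22Order.cz w) 3
    (by rw [(W.invol w hw).1]; norm_num)
  rw [Subgroup.orderOf_mk] at ht3
  exact ⟨t, ht3, M22Order.mem_cz.1 ht⟩

set_option maxHeartbeats 800000 in
/-- A simple group of order 443520 has the counts of `M₂₂`. -/
theorem counts (hG : Nat.card G = ord) : M22Id.Counts G := by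
  classical
  have hcard : Nat.card G = 443520 := hG
  obtain ⟨hr11, hr7, hr5⟩ := data hG
  obtain ⟨A, B, Q, PB, l₁, l₂, χ₀, W⟩ := exists_pinned hG
  haveI : Fact (Nat.Prime 2) := ⟨Nat.prime_two⟩
  haveI : Fact (Nat.Prime 3) := ⟨Nat.prime_three⟩
  have prime : ∀ {x : Dat}, SylowCheck.Real G x →
      (∀ [Fact x.1.Prime], Nat.card (Sylow x.1 G) = x.2.1) ∧ cnt G x.1 = x.2.1 * (x.1 - 1) := by
    intro x hx
    haveI : Fact x.1.Prime := ⟨hx.1⟩
    exact ⟨hx.2.2.1, by rw [cnt_prime fun P => (hx.2.2.2 P).1, hx.2.2.1]⟩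
  obtain ⟨z, hz⟩ := exists_prime_orderOf_dvd_card' (G := G) 2 (by rw [hcard]; norm_num)
  have hidx : ∀ {g : G} {C : ℕ}, Nat.card (M12Nse.cz g) = C → (M12Nse.cz g).index * C = 443520 := fun h =>
    (index_eq_div h).trans hcard
  have h2 : cnt G 2 = 1155 := by
    have h1 : cnt G 2 = (M12Nse.cz z).index := by
      rw [← card_conj]
      exact Nat.card_congr (Equiv.subtypeEquivRight fun x =>
        ⟨fun hx => W.conj_two hG hz hx, fun hx => (orderOf_eq_of_isConj hx).trans hz⟩)
    have := hidx (g := z) (W.invol z hz).1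
    omega
  obtain ⟨t, ht, htz⟩ := exists_three_commute W hz
  have pow3 : ∀ {g : G}, orderOf g = 3 → g ^ 3 ^ 1 = 1 ∧ g ≠ 1 := fun {g} hg =>
    ⟨by rw [pow_one, ← hg]; exact pow_orderOf_eq_one g, ne_one_of_order hg (by norm_num)⟩
  have hconj3 : ∀ {g g' : G}, orderOf g = 3 → orderOf g' = 3 → IsConj g g' := fun hg hg' =>
    W.conj_three hG (pow3 hg).1 (pow3 hg).2 (pow3 hg').1 (pow3 hg').2
  have hC36 : Nat.card (M12Nse.cz t) = 36 := by
    have h := (W.triple hG (pow3 ht).1 (pow3 ht).2).2
    have heven : 2 ∣ Nat.card (M12Nse.cz t) :=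
      hz ▸ Subgroup.orderOf_dvd_natCard _ (M12Nse.mem_cz.2 htz.symm)
    simp only [triples, List.mem_cons, Prod.mk.injEq, List.not_mem_nil, or_false] at h
    rcases h with ⟨h, -⟩ | ⟨h, -⟩ | ⟨h, -⟩ <;> change Nat.card (M12Nse.cz t) = _ at h <;> omega
  have h3 : cnt G 3 = 12320 := by
    have h1 : cnt G 3 = (M12Nse.cz t).index := by
      rw [← card_conj]
      exact Nat.card_congr (Equiv.subtypeEquivRight fun x =>
        ⟨fun hx => hconj3 ht hx, fun hx => (orderOf_eq_of_isConj hx).trans ht⟩)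
    have := hidx hC36
    omega
  have h9 : cnt G 9 = 0 := by
    refine Nat.card_eq_zero.2 (Or.inl ⟨fun g => ?_⟩)
    obtain ⟨g, hg⟩ := g
    have hcube : orderOf (g ^ 3) = 3 := by rw [orderOf_pow' g (by norm_num), hg]; norm_num
    have hc := W.conj_three hG (g := g) (j := 2) (g' := g ^ 3) (j' := 1)
      (by rw [show (3 : ℕ) ^ 2 = orderOf g by rw [hg]; norm_num]; exact pow_orderOf_eq_one g)
      (ne_one_of_order hg (by norm_num)) (pow3 hcube).1 (pow3 hcube).2
    have := orderOf_eq_of_isConj hc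
    rw [hg, hcube] at this
    norm_num at this
  have hw384 : ∀ {w : G}, orderOf w = 2 → ∀ P : Sylow 3 (M12Nse.cz w), Nat.card (P : Subgroup (M12Nse.cz w)) = 3 :=
    fun {w} hw P => CfsgLib.SmallSimple.card_sylow_eq P (k := 1) (m := 128) (by
      rw [show Nat.card (M12Nse.cz w) = 384 from (W.invol w hw).1]; rfl) (by norm_num)
  have hfib : ∀ w : G, orderOf w = 2 →
      Nat.card {x : G // orderOf x = 3 ∧ Commute w x} = Nat.card {x : G // orderOf x = 3 ∧ Commute z x} := by
    intro w hw
    obtain ⟨c, rfl⟩ := isConj_iff.1 (W.conj_two hG hz hw)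
    refine (Nat.card_congr (conjEquiv c _ _ fun x => ?_)).symm
    rw [show orderOf (c * x * c⁻¹) = orderOf x from MulEquiv.orderOf_eq (MulAut.conj c) x]
    exact and_congr_right fun _ => (Commute.conj_iff c).symm
  have hfib' : ∀ x : G, orderOf x = 3 →
      Nat.card {w : G // orderOf w = 2 ∧ Commute x w} = Nat.card {w : G // orderOf w = 2 ∧ Commute t w} := by
    intro x hx
    obtain ⟨c, rfl⟩ := isConj_iff.1 (hconj3 ht hx)
    refine (Nat.card_congr (conjEquiv c _ _ fun w => ?_)).symm
    rw [show orderOf (c * w * c⁻¹) = orderOf w from MulEquiv.orderOf_eq (MulAut.conj c) w]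
    exact and_congr_right fun _ => (Commute.conj_iff c).symm
  have hn : Nat.card {x : G // orderOf x = 3 ∧ Commute z x} = Nat.card (Sylow 3 (M12Nse.cz z)) * 2 := by
    rw [show Nat.card (Sylow 3 (M12Nse.cz z)) * 2 = cnt (M12Nse.cz z) 3 from (cnt_prime (hw384 hz)).symm]
    exact Nat.card_congr
      { toFun := fun x => ⟨⟨x.1, M12Nse.mem_cz.2 x.2.2.eq.symm⟩, by rw [Subgroup.orderOf_mk]; exact x.2.1⟩
        invFun := fun x => ⟨x.1.1, by rw [Subgroup.orderOf_coe]; exact x.2, (M12Nse.mem_cz.1 x.1.2).symm⟩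
        left_inv := fun _ => rfl
        right_inv := fun _ => rfl }
  have h6 : cnt G 6 = 1155 * (Nat.card (Sylow 3 (M12Nse.cz z)) * 2) := by
    rw [show (6 : ℕ) = 2 * 3 from rfl, cnt_mul two_pos (by norm_num) (by norm_num),
      card_pairs (fun v : G => orderOf v = 2) (fun v x => orderOf x = 3 ∧ Commute v x) hfib,
      show Nat.card {g : G // orderOf g = 2} = 1155 from h2, hn]
  have h6' : cnt G 6 = 12320 * Nat.card {w : G // orderOf w = 2 ∧ Commute t w} := by
    rw [show (6 : ℕ) = 3 * 2 from rfl, cnt_mul (by norm_num) two_pos (by norm_num),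
      card_pairs (fun v : G => orderOf v = 3) (fun v w => orderOf w = 2 ∧ Commute v w) hfib',
      show Nat.card {g : G // orderOf g = 3} = 12320 from h3]
  have six : cnt G 6 = 36960 := by
    have hs := sum_cnt (G := G) {1, 2, 3, 5, 7, 11, 6}
    simp only [Finset.sum_insert, Finset.mem_insert, Finset.mem_singleton, OfNat.one_ne_ofNat,
      Nat.reduceEqDiff, or_self, not_false_eq_true, Finset.sum_singleton] at hs
    rw [hcard, cnt_one, show cnt G 5 = 88704 from (prime hr5).2, show cnt G 7 = 126720 from (prime hr7).2,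
      show cnt G 11 = 80640 from (prime hr11).2, h2, h3] at hs
    have hmod := card_sylow_modEq_one 3 (M12Nse.cz z)
    rw [Nat.ModEq] at hmod
    have hk := h6.symm.trans h6'
    have hpos : 0 < Nat.card (Sylow 3 (M12Nse.cz z)) := Nat.card_pos
    omega
  have five_cz : ∀ {x : G}, orderOf x = 5 → Nat.card (M12Nse.cz x) = 5 := fun {x} hx => by
    haveI : Fact x5u.1.Prime := ⟨hr5.1⟩
    obtain ⟨R, -, hR⟩ := SylowCheck.centralizer_of_orderOf hr5 (g := x) hx
    exact (congrArg (fun H : Subgroup G => Nat.card H) hR).trans (hr5.2.2.2 R).2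
  exact
    { card := hcard
      five := prime hr5
      seven := prime hr7
      eleven := prime hr11
      cz_five := five_cz
      two := h2
      three := h3
      nine_val := fun h => absurd h9 h
      six_val := fun _ => Or.inl six }

end CfsgLib.M22Order
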