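import Cfsg.Agent.M22Id.Order.Hits
import Cfsg.Agent.M22Id.Order.CheckA1
import Cfsg.Agent.M22Id.Order.CheckA2
import Cfsg.Agent.M22Id.Order.CheckA3
import Cfsg.Agent.M22Id.Order.CheckB1
import Cfsg.Agent.M22Id.Order.CheckB2
import Cfsg.Agent.M22Id.Order.CheckB0

/-!
# The Sylow subgroups for 11, 7 and 5 are self-centralising
-/

set_option autoImplicit false
set_option linter.style.haveILetI false
set_option linter.unusedSectionVars false

namespace CfsgLib.M22Order

open Cfsg Finset CfsgLib.Block CfsgLib.Block.Chr CfsgLib.BrauerPairs CfsgLib.BrauerPrime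

universe u

theorem all_take_drop {f : List ℕ → Bool} {l : List (List ℕ)} {n : ℕ} (h₁ : (l.take n).all f = true)
    (h₂ : (l.drop n).all f = true) : l.all f = true := by
  rw [← List.take_append_drop n l, List.all_append, h₁, h₂]; rfl

theorem all_three {f : List ℕ → Bool} (h₁ : (L11.take 48).all f = true) (h₂ : ((L11.drop 48).take 48).all f = true)
    (h₃ : (L11.drop 96).all f = true) : L11.all f = true :=
  all_take_drop h₁ (all_take_drop h₂ (by rwa [List.drop_drop]))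

/-- The checks for the Sylow 7-subgroup, by the order of the centralizer. -/
theorem stageA_all : ∀ x ∈ X7, x.2.2 ≠ 1 → L11.all (stageA x (CU x)) = true := by
  intro x hx hc
  simp only [X7, List.mem_cons, List.not_mem_nil, or_false] at hx
  rcases hx with rfl | rfl | rfl | rfl | rfl | rfl
  · have h := all_three stageA_1_1 stageA_1_2 stageA_1_3
    have e := CUs_eq _ (List.mem_of_getElem? (l := CUs) (i := 0) rfl)
    simp only at e
    simpa only [e] using h
  · have h := all_three stageA_2_1 stageA_2_2 stageA_2_3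
    have e := CUs_eq _ (List.mem_of_getElem? (l := CUs) (i := 1) rfl)
    simp only at e
    simpa only [e] using h
  · have h := all_three stageA_3_1 stageA_3_2 stageA_3_3
    have e := CUs_eq _ (List.mem_of_getElem? (l := CUs) (i := 2) rfl)
    simp only at e
    simpa only [e] using h
  · have h := all_three stageA_4_1 stageA_4_2 stageA_4_3
    have e := CUs_eq _ (List.mem_of_getElem? (l := CUs) (i := 3) rfl)
    simp only at e
    simpa only [e] using h
  · have h := all_three stageA_5_1 stageA_5_2 stageA_5_3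
    have e := CUs_eq _ (List.mem_of_getElem? (l := CUs) (i := 4) rfl)
    simp only at e
    simpa only [e] using h
  · exact absurd rfl hc

/-- The checks for the Sylow 5-subgroup. -/
theorem stageB_all : ∀ x ∈ X5, x.2.2 ≠ 1 →
    L11.all (stageB x (CU x)) = true ∧ (ss x ≠ 1 → L11.all (stageB0 x (CU x)) = true) := by
  intro x hx hc
  simp only [X5, List.mem_cons, List.not_mem_nil, or_false] at hx
  rcases hx with rfl | rfl | rfl | rfl | rfl | rfl | rfl | rfl | rfl
  · rw [CUs_eq ((5, 231, 192), _) (by unfold CUs; exact List.mem_of_getElem? (i := 5) rfl)]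
    exact ⟨all_take_drop stageB_1_1 stageB_1_2, fun _ => stageB0_1⟩
  · rw [CUs_eq ((5, 231, 96), _) (by unfold CUs; exact List.mem_of_getElem? (i := 6) rfl)]
    exact ⟨all_take_drop stageB_2_1 stageB_2_2, fun h => absurd (by decide +kernel) h⟩
  · rw [CUs_eq ((5, 616, 36), _) (by unfold CUs; exact List.mem_of_getElem? (i := 7) rfl)]
    exact ⟨all_take_drop stageB_3_1 stageB_3_2, fun h => absurd (by decide +kernel) h⟩
  · rw [CUs_eq ((5, 1386, 32), _) (by unfold CUs; exact List.mem_of_getElem? (i := 8) rfl)]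
    exact ⟨all_take_drop stageB_4_1 stageB_4_2, fun _ => stageB0_2⟩
  · rw [CUs_eq ((5, 1386, 16), _) (by unfold CUs; exact List.mem_of_getElem? (i := 9) rfl)]
    exact ⟨all_take_drop stageB_5_1 stageB_5_2, fun h => absurd (by decide +kernel) h⟩
  · rw [CUs_eq ((5, 3696, 12), _) (by unfold CUs; exact List.mem_of_getElem? (i := 10) rfl)]
    exact ⟨all_take_drop stageB_6_1 stageB_6_2, fun _ => stageB0_3⟩
  · rw [CUs_eq ((5, 3696, 6), _) (by unfold CUs; exact List.mem_of_getElem? (i := 11) rfl)]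
    exact ⟨all_take_drop stageB_7_1 stageB_7_2, fun h => absurd (by decide +kernel) h⟩
  · rw [CUs_eq ((5, 22176, 2), _) (by unfold CUs; exact List.mem_of_getElem? (i := 12) rfl)]
    exact ⟨all_take_drop stageB_8_1 stageB_8_2, fun _ => stageB0_4⟩
  · exact absurd rfl hc

theorem X7_facts : ∀ x ∈ X7, x.1 = 7 ∧ (x.2.2 ≠ 1 → x.2.2 % 2 = 0 ∧ Nat.gcd x.2.2 128 ≠ 128) := by decide +kernel

theorem X5_facts : ∀ x ∈ X5, x.1 = 5 ∧ ee x ≤ 4 ∧ 2 ≤ ee x ∧
    (x.2.2 ≠ 1 → x.2.2 % 2 = 0 ∧ Nat.gcd x.2.2 128 ≠ 128) ∧ (x.2.2 = 1 → x = x5u) ∧ (ss x = 1 → ee x = 4) := by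
  decide +kernel

theorem X7_u : ∀ x ∈ X7, x.2.2 = 1 → x = x7u := by decide +kernel

theorem x5u_facts : ee x5u = 4 ∧ ss x5u = 1 ∧ ee x7u = 3 ∧ ss x7u = 2 := by decide +kernel

variable {G : Type u} [Group G] [Fintype G] [IsSimpleGroup G]

theorem opts_of_real (hG : Nat.card G = ord) {p : ℕ} (hp : p.Prime) (hd : p ∣ ord) (hd2 : ¬ p ^ 2 ∣ ord) :
    ∃ x ∈ blocky p, SylowCheck.Real G x ∧ x.1 = p ∧ p = x.1 := by
  obtain ⟨x, hx, hr, he⟩ := SylowCheck.exists_real (not_comm hG) divs (fun k hk => mem_divs (hG ▸ hk)) hp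
    (hG.symm ▸ hd) (hG.symm ▸ hd2)
  rw [hG] at hx
  refine ⟨x, List.mem_filter.2 ⟨hx, ?_⟩, hr, he, he.symm⟩
  haveI : Fact x.1.Prime := ⟨hr.1⟩
  have h3 : 2 < x.1 := by
    have h2 := hr.1.two_le
    rcases eq_or_lt_of_le h2 with e | e
    · exfalso; exact hd2 (by rw [← he, ← e]; norm_num [ord])
    · exact e
  obtain ⟨S⟩ : Nonempty (Sylow x.1 G) := inferInstance
  obtain ⟨B, hB⟩ := exists_block hG h3 hr S
  obtain ⟨L, hL, -⟩ := hB.exists_lists (D := small) fun χ hχ _ h2 => mem_small (hB.dvd_ord χ hχ) h2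
  cases hl : lists x small with
  | nil => rw [hl] at hL; simp at hL
  | cons a l => rfl

theorem exists_data (hG : Nat.card G = ord) : ∃ x7 ∈ X7, ∃ x5 ∈ X5,
    SylowCheck.Real G x11 ∧ SylowCheck.Real G x7 ∧ SylowCheck.Real G x5 := by
  obtain ⟨a, ha, hra, ha1, -⟩ := opts_of_real hG (p := 11) (by norm_num) (by norm_num [ord]) (by norm_num [ord])
  obtain ⟨b, hb, hrb, hb1, -⟩ := opts_of_real hG (p := 7) (by norm_num) (by norm_num [ord]) (by norm_num [ord])
  obtain ⟨c, hc, hrc, hc1, -⟩ := opts_of_real hG (p := 5) (by norm_num) (by norm_num [ord]) (by norm_num [ord])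
  have hD : ∀ k, k ∣ Nat.card G → k ∈ divs := fun k hk => mem_divs (hG ▸ hk)
  have hab : a.1 ≠ b.1 := by rw [ha1, hb1]; norm_num
  have hac : a.1 ≠ c.1 := by rw [ha1, hc1]; norm_num
  have hbc : b.1 ≠ c.1 := by rw [hb1, hc1]; norm_num
  have h := dataOK_eq
  simp only [dataOK, List.all_eq_true] at h
  have h2 := h a ha b hb
  simp only [SylowCheck.compat_of_real divs hD hra hrb hab, SylowCheck.compat_of_real divs hD hrb hra hab.symm,
    Bool.and_self, Bool.not_true, Bool.false_or, Bool.and_eq_true, beq_iff_eq, List.contains_eq_mem,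
    decide_eq_true_eq, List.all_eq_true] at h2
  obtain ⟨⟨rfl, hb7⟩, h3⟩ := h2
  have h4 := h3 c hc
  simp only [SylowCheck.compat_of_real divs hD hra hrc hac, SylowCheck.compat_of_real divs hD hrc hra hac.symm,
    SylowCheck.compat_of_real divs hD hrb hrc hbc, SylowCheck.compat_of_real divs hD hrc hrb hbc.symm,
    Bool.and_self, Bool.not_true, Bool.false_or, decide_eq_true_eq] at h4
  exact ⟨b, hb7, c, h4, hra, hrb, hrc⟩

theorem eleven_cz (hx : SylowCheck.Real G x11) {g : G} (hg : orderOf g = 2) : Nat.card (cz g) % 11 ≠ 0 := fun h =>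
  not_dvd_cz hx rfl (ne_one_of_order hg (by norm_num)) (regular_of_two hg (by norm_num [x11])) (Nat.dvd_of_mod_eq_zero h)

/-- An involution gives a column on the block for 11. -/
theorem aOnly_true (hG : Nat.card G = ord) {A : Finset (IrrCharacter G)} {P : Subgroup G} (hA : Block x11 P A)
    {LA : List ℕ} (hcA : ∀ v, LA.count v = (A.filter fun χ => dg χ = v).card) {g : G} (hg : orderOf g = 2) :
    aOnly LA (Nat.card (cz g)) = true := by
  classical
  have outA : ∀ χ : IrrCharacter G, ¬ 11 ∣ dg χ ↔ χ ∈ A := hA.out rfl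
  have T : Tri LA [] [] 11 A (∅ : Finset (IrrCharacter G)) ∅ :=
    ⟨outA, fun χ h => by simp [h], hcA, fun v => by simp, fun v => by simp⟩
  obtain ⟨l₁, l₂, F⟩ := T.frame (k := (x11, x11)) (m := 11) (PB := ⊥) ⟨P, hA⟩ (Or.inl rfl) (Or.inl rfl)
    fun χ h _ _ => not_not.1 fun h' => h ((outA χ).1 h')
  unfold aOnly
  simp only [Bool.and_eq_true, Bool.not_eq_true']
  refine ⟨F.restOK hG, ?_⟩
  have h := F.mem_invCols hG (by norm_num) (by norm_num [x11]) (by norm_num [x11]) hg .alone false (fun h => by simp at h)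
    (fun h => absurd rfl h) (fun h => by simp at h) (fun h => by simp at h)
  cases hl : invCols (x11, x11) .alone false (recs LA [] [] 11) 11 (Nat.card (cz g)) with
  | nil => rw [hl] at h; simp at h
  | cons a l => rfl

set_option maxHeartbeats 1000000 in
/-- The Sylow 7-subgroup is self-centralising. -/
theorem seven_u (hG : Nat.card G = ord) {x7 x5 : Dat} (h7 : x7 ∈ X7) (h5 : x5 ∈ X5) (hr11 : SylowCheck.Real G x11)
    (hr7 : SylowCheck.Real G x7) (hr5 : SylowCheck.Real G x5) : x7.2.2 = 1 := by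
  classical
  by_contra hc
  obtain ⟨hp7, hf7⟩ := X7_facts x7 h7
  obtain ⟨hp5, -, -, hf5, hu5, -⟩ := X5_facts x5 h5
  haveI : Fact x11.1.Prime := ⟨hr11.1⟩
  haveI : Fact x7.1.Prime := ⟨hr7.1⟩
  haveI : Fact x5.1.Prime := ⟨hr5.1⟩
  obtain ⟨S11⟩ : Nonempty (Sylow x11.1 G) := inferInstance
  obtain ⟨S7⟩ : Nonempty (Sylow x7.1 G) := inferInstance
  obtain ⟨S5⟩ : Nonempty (Sylow x5.1 G) := inferInstance
  obtain ⟨A, hA⟩ := exists_block hG (by norm_num [x11]) hr11 S11
  obtain ⟨B, hB⟩ := exists_block hG (by omega) hr7 S7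
  obtain ⟨LA, hLA, hcA⟩ := hA.exists_eleven
  obtain ⟨LB, hLB, hcB⟩ := hB.exists_blks hcA (hA.out rfl)
  obtain ⟨u, hu, huC, huU⟩ := exists_invol hG hr7 (by omega) (hf7 hc).1 (hf7 hc).2 (fun g hg => eleven_cz hr11 hg) S7
  have hst := List.all_eq_true.1 (stageA_all x7 h7 hc) LA hLA
  simp only [stageA, Bool.or_eq_true, Bool.not_eq_true', Bool.and_eq_true, List.all_eq_true] at hst
  rcases hst with (he | ha) | ⟨h1, h2⟩
  · rw [List.isEmpty_iff] at he; rw [he] at hLB; simp at hLB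
  · have := aOnly_true hG hA hcA hu
    rw [List.any_eq_false] at ha
    exact ha _ huU this
  by_cases hc5 : x5.2.2 = 1
  · obtain rfl := hu5 hc5
    obtain ⟨Q, hQ⟩ := exists_block hG (by norm_num [x5u]) hr5 S5
    obtain ⟨LQ, hLQ, hcQ⟩ := hQ.exists_blks hcA (hA.out rfl)
    have T : Tri LA LB LQ 5 A B Q := ⟨hA.out rfl, fun χ _ => hQ.out rfl χ, hcA, hcB, hcQ⟩
    obtain ⟨l₁, l₂, F⟩ := T.frame (k := (x7, x5u)) (m := 55) (PB := (S7 : Subgroup G)) ⟨_, hA⟩ (Or.inr hB)
      (Or.inr ⟨rfl, by rw [x5u_facts.1]; norm_num, by rw [x5u_facts.1]; norm_num [x5u], _, hQ⟩)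
      fun χ h _ h' => (Nat.Coprime.mul_dvd_of_dvd_of_dvd (by norm_num : Nat.Coprime 5 11)
        (not_not.1 fun e => h' ((hQ.out rfl χ).1 e)) (not_not.1 fun e => h ((hA.out rfl χ).1 e)))
    have h3 := h2 LQ hLQ LB hLB
    rw [T.fits, T.covers (hQ.out rfl), F.restOK hG] at h3
    simp only [Bool.true_eq_false, false_or] at h3
    have h4 := h3 _ huU
    have hC5 : Nat.card (cz u) % 5 ≠ 0 := fun h =>
      not_dvd_cz hr5 rfl (ne_one_of_order hu (by norm_num)) (regular_of_two hu (by norm_num [x5u]))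
        (Nat.dvd_of_mod_eq_zero h)
    rcases h4 with h4 | h4
    · exact hC5 (beq_iff_eq.1 h4)
    have h5' := F.mem_invCols hG (by norm_num) (by norm_num [x5u]) (by show 2 < x7.1; omega) hu .second true
      (fun _ => ⟨by show 2 < x7.1; omega, by show x7.1 % 2 = 1; omega, huC⟩)
      (fun _ => ⟨hB, rfl, by rw [x5u_facts.1]; norm_num, by rw [x5u_facts.1]; norm_num [x5u], _, hQ⟩)
      (fun h => by simp at h) (fun h => by simp at h)
    rw [List.isEmpty_iff] at h4
    rw [h4] at h5'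
    simp at h5'
  · obtain ⟨v, hv, -, hvU⟩ := exists_invol hG hr5 (by omega) (hf5 hc5).1 (hf5 hc5).2 (fun g hg => eleven_cz hr11 hg) S5
    have := h1 _ (CU5_eq x5 h5 hc5 _ hvU)
    rw [aOnly_true hG hA hcA hv] at this
    simp at this

theorem index_ee (hG : Nat.card G = ord) {x : Dat} [Fact x.1.Prime] (h3 : 2 < x.1) (hx : SylowCheck.Real G x)
    (S : Sylow x.1 G) :
    (Subgroup.centralizer ((S : Subgroup G) : Set G)).relIndex (Subgroup.normalizer ((S : Subgroup G) : Set G)) = ee x := by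
  obtain ⟨M, hM, n, X, Y, sg, ε, D⟩ := exists_pb hG h3 hx S
  exact D.num.he

set_option maxHeartbeats 1000000 in
/-- The Sylow 5-subgroup is self-centralising. -/
theorem five_u (hG : Nat.card G = ord) {x5 : Dat} (h5 : x5 ∈ X5) (hr11 : SylowCheck.Real G x11)
    (hr7 : SylowCheck.Real G x7u) (hr5 : SylowCheck.Real G x5) : x5 = x5u := by
  classical
  obtain ⟨hp5, -, -, hf5, hu5, he4⟩ := X5_facts x5 h5
  refine hu5 (by_contra fun hc => ?_)
  haveI : Fact x11.1.Prime := ⟨hr11.1⟩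
  haveI : Fact x7u.1.Prime := ⟨hr7.1⟩
  haveI : Fact x5.1.Prime := ⟨hr5.1⟩
  obtain ⟨S11⟩ : Nonempty (Sylow x11.1 G) := inferInstance
  obtain ⟨S7⟩ : Nonempty (Sylow x7u.1 G) := inferInstance
  obtain ⟨S5⟩ : Nonempty (Sylow x5.1 G) := inferInstance
  obtain ⟨A, hA⟩ := exists_block hG (by norm_num [x11]) hr11 S11
  obtain ⟨Q, hQ⟩ := exists_block hG (by norm_num [x7u]) hr7 S7
  obtain ⟨B, hB⟩ := exists_block hG (by omega) hr5 S5
  obtain ⟨LA, hLA, hcA⟩ := hA.exists_eleven
  obtain ⟨LB, hLB, hcB⟩ := hB.exists_blks hcA (hA.out rfl)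
  obtain ⟨LQ, hLQ, hcQ⟩ := hQ.exists_blks hcA (hA.out rfl)
  obtain ⟨u, hu, huC, huU⟩ := exists_invol hG hr5 (by omega) (hf5 hc).1 (hf5 hc).2 (fun g hg => eleven_cz hr11 hg) S5
  have hC7 : Nat.card (cz u) % 7 ≠ 0 := fun h =>
    not_dvd_cz hr7 rfl (ne_one_of_order hu (by norm_num)) (regular_of_two hu (by norm_num [x7u]))
      (Nat.dvd_of_mod_eq_zero h)
  have hmem : Nat.card (cz u) ∈ (CU x5).filter fun C => C % 7 != 0 := List.mem_filter.2 ⟨huU, by simpa using hC7⟩
  have hand := (stageB_all x5 h5 hc)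
  have hfit : Tri LA LB LQ 7 A B Q := ⟨hA.out rfl, fun χ _ => hQ.out rfl χ, hcA, hcB, hcQ⟩
  obtain ⟨l₁, l₂, F⟩ := hfit.frame (k := (x5, x7u)) (m := 77) (PB := (S5 : Subgroup G)) ⟨_, hA⟩ (Or.inr hB)
    (Or.inr ⟨rfl, by rw [x5u_facts.2.2.1]; norm_num, by rw [x5u_facts.2.2.1]; norm_num [x7u], _, hQ⟩)
    fun χ h _ h' => (Nat.Coprime.mul_dvd_of_dvd_of_dvd (by norm_num : Nat.Coprime 7 11)
      (not_not.1 fun e => h' ((hQ.out rfl χ).1 e)) (not_not.1 fun e => h ((hA.out rfl χ).1 e)))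
  have hQne : ¬ (blks x7u LA).isEmpty = true := fun e => by rw [List.isEmpty_iff] at e; rw [e] at hLQ; simp at hLQ
  have hany : ((CU x5).filter fun C => C % 7 != 0).any (aOnly LA) = true :=
    List.any_eq_true.2 ⟨_, hmem, aOnly_true hG hA hcA hu⟩
  by_cases hs : ss x5 = 1
  · have hst := List.all_eq_true.1 hand.1 LA hLA
    simp only [stageB, hany, Bool.not_true, Bool.or_false, Bool.or_eq_true, hQne, Bool.false_eq_true, false_or, List.all_eq_true] at hst
    have h3 := hst LQ hLQ LB hLB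
    rw [hfit.fits, hfit.covers (hQ.out rfl), F.restOK hG] at h3
    simp only [Bool.not_true, Bool.false_eq_true, false_or] at h3
    obtain ⟨⟨y, hy⟩, hy'⟩ := exists_prime_orderOf_dvd_card' (G := (S5 : Subgroup G)) x5.1
      (by rw [(hr5.2.2.2 S5).1])
    rw [Subgroup.orderOf_mk] at hy'
    obtain ⟨R, hyR, hcR⟩ := SylowCheck.centralizer_of_orderOf hr5 hy'
    have hrel : (Subgroup.centralizer ((S5 : Subgroup G) : Set G)).relIndex
        (Subgroup.normalizer ((S5 : Subgroup G) : Set G)) = x5.1 - 1 := by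
      rw [index_ee hG (by omega) hr5 S5, he4 hs, hp5]
    refine F.false_of_crossFree hG (by norm_num) hr5.1 (by show x5.1 % 2 = 1; omega) (by show 2 < x5.1; omega)
      (by show x5.1 ≠ 11; omega) (by show x5.1 ≠ x7u.1; rw [hp5]; norm_num [x7u]) hs hB rfl
      (by rw [x5u_facts.2.2.1]; norm_num) (by rw [x5u_facts.2.2.1]; norm_num [x7u]) (by rw [x5u_facts.2.2.1])
      hr7.1 (by norm_num [x7u]) hQ hu huC hy hy'
      ((congrArg (fun H : Subgroup G => Nat.card H) hcR).trans (hr5.2.2.2 R).2)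
      (fun χ => exists_int_gen S5 (hr5.2.2.2 S5).1 hrel
        ((hr5.2.2.2 S5).1 ▸ Subgroup.card_subgroup_dvd_card _) hy (isCharacter_irr χ))
      (h3 _ hmem)
  · have hst := List.all_eq_true.1 (hand.2 hs) LA hLA
    simp only [stageB0, hany, Bool.not_true, Bool.or_false, Bool.or_eq_true, hQne, Bool.false_eq_true, false_or, List.all_eq_true] at hst
    have h3 := hst LQ hLQ LB hLB
    rw [hfit.fits, hfit.covers (hQ.out rfl), F.restOK hG] at h3
    simp at h3

/-- The data. -/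
theorem data (hG : Nat.card G = ord) :
    SylowCheck.Real G x11 ∧ SylowCheck.Real G x7u ∧ SylowCheck.Real G x5u := by
  obtain ⟨x7, h7, x5, h5, hr11, hr7, hr5⟩ := exists_data hG
  obtain rfl := X7_u x7 h7 (seven_u hG h7 h5 hr11 hr7 hr5)
  obtain rfl := five_u hG h5 hr11 hr7 hr5
  exact ⟨hr11, hr7, hr5⟩

end CfsgLib.M22Order
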